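import Cfsg.Agent.H50.HerDefs
import Cfsg.Prelude.Def_Classical
import Cfsg.Prelude.Def_Classification2
import Cfsg.Prelude.Def_LieTypeChar
import Cfsg.Agent.Prune
set_option linter.all false
prune_inst 0x7f00000000000000000000000000000000000000000000000000000000000000000000000000000000000000000000000000000000000000000000000000000000000000000000000000000000000000003fffffffffffffffffffffffffffbeffbdffffffff

/-!
# Hering's theorem (S3695): the goal of the case analysis (helper50)

`HerType p d b L` : the list of the perfect normal subgroups `L` of the transitive linear groups of degree `d` over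
`ZMod p`, `|End_L(V)| = p ^ b`.

`Half ρ` : the stabilisers in `L` of the nonzero vectors have the same order (`L` is normal in a group which is transitive
on the nonzero vectors, so its orbits on them have the same length).
-/

set_option autoImplicit false

namespace Cfsg.Agent.H50.Her

universe u v w

/-- The list. -/
def HerType (p d b : ℕ) (L : Type u) [Group L] : Prop :=
  (∃ (a c : ℕ) (F : Type) (_ : Field F) (_ : Fintype F), a * c = d ∧ b ∣ c ∧ Fintype.card F = p ^ c ∧ 2 ≤ a ∧
    (Nonempty (L ≃* Matrix.SpecialLinearGroup (Fin a) F) ∨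
      (∃ m : ℕ, a = 2 * m ∧ 1 ≤ m ∧ Nonempty (L ≃* Matrix.symplecticGroup (Fin m) F)) ∨
      (a = 6 ∧ p = 2 ∧ 4 ≤ Fintype.card F ∧ Nonempty (L ≃* Cfsg.Lie.chevG2.group F)) ∨
      (a = 6 ∧ Fintype.card F = 2 ∧ ∃ (E : Type) (_ : Field E) (_ : Fintype E), Fintype.card E = 9 ∧
        Nonempty (L ≃* Cfsg.PSU 3 E 3)))) ∨
  (((d = 2 ∧ (p = 11 ∨ p = 19 ∨ p = 29 ∨ p = 59)) ∨ (d = 4 ∧ p = 3)) ∧
    Nonempty (L ≃* Matrix.SpecialLinearGroup (Fin 2) (ZMod 5))) ∨
  (p = 2 ∧ d = 4 ∧ b = 1 ∧ (Nonempty (L ≃* alternatingGroup (Fin 6)) ∨ Nonempty (L ≃* alternatingGroup (Fin 7)))) ∨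
  (p = 3 ∧ d = 6 ∧ b = 1 ∧ Nonempty (L ≃* Matrix.SpecialLinearGroup (Fin 2) (ZMod 13)))

/-- The stabilisers in `L` of the nonzero vectors have the same order. -/
def Half {p : ℕ} {L : Type u} {V : Type v} [Group L] [AddCommGroup V] [Module (ZMod p) V]
    (ρ : L →* (V ≃ₗ[ZMod p] V)) : Prop :=
  ∀ v w : V, v ≠ 0 → w ≠ 0 → Nat.card {g : L // ρ g v = v} = Nat.card {g : L // ρ g w = w}

end Cfsg.Agent.H50.Her
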