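import Cfsg.Agent.H891.Gen.LinRows
import Cfsg.Agent.H50.HerConj_m3
import Cfsg.Agent.Mrg.Omega.Lie.End.RowFE_m3
import Cfsg.Agent.SplitTwo.ExcHyp168_mg
import Cfsg.Agent.H742.PanU_m3
import Cfsg.Agent.H612.WModel
import Cfsg.Agent.Nodes.RootsA
import Cfsg.Agent.Nodes.TypeC
import Cfsg.Agent.H905.DCTypes
import Mathlib
import Cfsg.Agent.Mrg.Omega.ML.Ex.Typ.Frame_m3
import Cfsg.Agent.Tits.OppRes
import Cfsg.Agent.ChevalleyStructure.G2Perm
import Cfsg.Agent.ChevalleyStructure.Elts
import Cfsg.Agent.H264.CoverOver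
import Cfsg.Agent.S2100
import Cfsg.Agent.S2101
import Cfsg.Agent.S2102
import Cfsg.Agent.H62.SpMult
import Cfsg.Agent.H151.TwoPowElt
import Cfsg.Agent.H259.NatMod
import Cfsg.Agent.H159.SpEnd
import Cfsg.Agent.H163.PG.PslAut
import Cfsg.Agent.H804.PanPSL_mg
import Cfsg.Agent.H538.MFacts
import Cfsg.Agent.H64.ChevField
import Cfsg.Agent.LieClassical.FieldTransfer
import Cfsg.Agent.FastGrp
import Cfsg.Agent.Prune
set_option linter.all false

section
prune_inst 0x7fbca9f9a9b929dfdfff7e7fa6b0cffc39949fffe6dff94b7fe06bdfabdf230a0bc5fb8709e010fe1ed6e01410b87813f97eceffe26bd87ffffd1ff41ffbee4ff5f6b50951dc8cb40fbc0fff03f0778e7f3fffffffffffffffffffffffffffbeffbfffffffff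

-- part: H50/HerCore_mg
section
prune_inst 0x4156005604d62020000000514e0002004240000020000000069400502010a1242800280404c000c10000280000004006002000010404000000e0004000001002090a042023300010426000f000002000000000000000000000000000000041000000000000
set_option linter.all false
open scoped Cfsg.Agent.FastGrp

-- part: H50/HerCore
section
/-!
# Hering's theorem, defining characteristic: the core (helper50)

`DC L` : `L ≤ GL(V)` irreducible, perfect, quasisimple with centre of order prime to `p`, all the nonzero vectors have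
stabilisers of the same order.

* `DC.core_lab` : `L` acts on a building of type `M`: the panels have `P + 1` chambers, `P = |Vx|`, and `UniqLen`;
* `exists_scal` : the field of the scalars;
* `DC.core_uniq`, `DC.core_one`, `DC.core_eight`.
-/

set_option autoImplicit false
set_option linter.unusedSectionVars false
set_option linter.style.haveILetI false

namespace Cfsg.Agent.H50.Her

open Module
open Cfsg.Agent.ChevalleyStructure.CoxeterGeom Cfsg.Agent.Nodes.Reps
open Cfsg.Agent.Tits.Core Cfsg.Agent.Tits.Core.Bldg Cfsg.Agent.Tits.Exchange Cfsg.Agent.Tits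
open Cfsg.Agent.FixBN Cfsg.Agent.FixBN.Cox Cfsg.Agent.Omega.CR Cfsg.Agent.Omega.CR.Bl Cfsg.Agent.H905.DC

universe u v

section

variable {p : ℕ} [hp : Fact p.Prime] {V : Type u} [AddCommGroup V] [Module (ZMod p) V] [Finite V] [Nontrivial V]

/-- The setting of the defining characteristic. -/
structure DC (L : Subgroup (V ≃ₗ[ZMod p] V)) : Prop where
  irr : ∀ W : Submodule (ZMod p) V, (∀ g ∈ L, ∀ x ∈ W, g x ∈ W) → W = ⊥ ∨ W = ⊤
  perf : commutator L = ⊤
  simple : IsSimpleGroup (L ⧸ Subgroup.center L)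
  cop : (Nat.card (Subgroup.center L)).Coprime p
  half : Half L.subtype

/-- `L` as a group of endomorphisms -/
def rep (L : Subgroup (V ≃ₗ[ZMod p] V)) : L →* Module.End (ZMod p) V :=
  LinearEquiv.automorphismGroup.toLinearMapMonoidHom.comp L.subtype

variable {L : Subgroup (V ≃ₗ[ZMod p] V)}

theorem rep_injective : Function.Injective (rep L) := by
  intro g h e
  apply Subtype.ext
  ext v
  exact LinearMap.congr_fun e v

instance finite_L : Finite L := by
  have : Finite (V ≃ₗ[ZMod p] V) := DFunLike.finite _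
  infer_instance

/-- every vector is fixed by a Sylow `p`-subgroup -/
theorem DC.cov (h : DC L) (v : V) : ∃ Q : Subgroup L, IsPGroup p Q ∧
    (∀ Q' : Subgroup L, IsPGroup p Q' → Nat.card Q' ≤ Nat.card Q) ∧ ∀ g ∈ Q, g.1 v = v := by
  by_cases hv : v = 0
  · obtain ⟨Q⟩ : Nonempty (Sylow p L) := inferInstance
    refine ⟨Q, Q.isPGroup', fun Q' hQ' => ?_, fun g _ => by rw [hv, map_zero]⟩
    obtain ⟨k, hk⟩ := IsPGroup.iff_card.1 hQ'
    obtain ⟨Q'', hQ''⟩ := hQ'.exists_le_sylow
    rw [Nat.card_congr (Sylow.equiv Q Q'').toEquiv]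
    exact Subgroup.card_le_of_le hQ''
  obtain ⟨m, k, h1, h2, -⟩ := Cfsg.Agent.H658.HerGen.exists_orbits h.half ⟨v, hv⟩
  have h3 := h1 v hv
  have hpm : ¬ p ∣ m := by
    intro hd
    have h4 : p ∣ Nat.card V := by
      rw [Module.natCard_eq_pow_finrank (K := ZMod p) (V := V), Nat.card_zmod]
      exact dvd_pow_self p (Module.finrank_pos (R := ZMod p) (M := V)).ne'
    rw [← h2] at h4
    have h5 : p ∣ 1 := (Nat.dvd_add_right (dvd_mul_of_dvd_right hd k)).1 h4
    exact hp.out.one_lt.ne' (Nat.dvd_one.1 h5)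
  let St : Subgroup L :=
    { carrier := {g | g.1 v = v}
      one_mem' := rfl
      mul_mem' := by
        intro a b ha hb
        change (a.1 * b.1) v = v
        rw [LinearEquiv.mul_apply, hb, ha]
      inv_mem' := by
        intro a ha
        change a.1⁻¹ v = v
        nth_rw 1 [← (show a.1 v = v from ha)]
        rw [← LinearEquiv.mul_apply, inv_mul_cancel]
        rfl }
  have hcard : m * Nat.card St = Nat.card L := h3
  obtain ⟨Q⟩ : Nonempty (Sylow p St) := inferInstance
  refine ⟨((Q : Subgroup St).map St.subtype :), Q.isPGroup'.map _, fun Q' hQ' => ?_, ?_⟩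
  · rw [Subgroup.card_map_of_injective St.subtype_injective, Sylow.card_eq_multiplicity]
    obtain ⟨k', hk'⟩ := IsPGroup.iff_card.1 hQ'
    have h4 : p ^ k' ∣ Nat.card L := hk' ▸ Subgroup.card_subgroup_dvd_card Q'
    rw [← hcard] at h4
    have h5 : p ^ k' ∣ Nat.card St :=
      (Nat.Coprime.pow_left k' ((Nat.Prime.coprime_iff_not_dvd hp.out).2 hpm)).dvd_of_dvd_mul_left h4
    rw [hk']
    exact Nat.pow_le_pow_right hp.out.pos ((hp.out.pow_dvd_iff_le_factorization Nat.card_pos.ne').1 h5)
  · rintro _ ⟨g, -, rfl⟩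
    exact g.2

theorem DC.irr' (h : DC L) : ∀ W : Submodule (ZMod p) V, Ivt (rep L) ⊤ W → W = ⊥ ∨ W = ⊤ := by
  intro W hW
  refine h.irr W fun g hg x hx => ?_
  exact hW ⟨g, hg⟩ trivial x hx

section bldg

variable {I : Type*} {M : CoxeterMatrix I} {W : Type*} [Group W] {cs : CoxeterSystem M W} [F : OppRes.Cox cs]
  {C : Type*} {Δ : Bldg cs C} [MulAction L C] {S : Sys Δ L p} [Fintype C]

theorem DC.hcov (h : DC L) (v : V) : ∃ x, v ∈ Vx S (rep L) x := by
  obtain ⟨Q, hQ, hmax, hfix⟩ := h.cov v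
  obtain ⟨x, hx⟩ := S.exists_fix Q hQ
  refine ⟨x, ?_⟩
  have h1 : Q ≤ S.U x := S.max x Q hQ hx
  have h2 : Q = S.U x := Subgroup.eq_of_le_of_card_ge h1 (hmax _ (S.isP x))
  rw [mem_Vx]
  intro u hu
  rw [← h2] at hu
  exact hfix u hu

/-- the panels and the unique length property -/
theorem DC.core_lab (h : DC L) [Nonempty I] (hth : Δ.Thick)
    (hk : ∀ J : Set I, J ≠ Set.univ → ∀ k, ∃ w : W, w⁻¹ * cs.simple k * w ∉ WJ cs J) :
    ∃ (a : ℕ) (lab : W → ℕ) (P : ℕ), Lab S (rep L) a lab P ∧ Jset S (rep L) ≠ Set.univ ∧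
      (∀ (x : C) (k : I), Nat.card {y : C // Δ.δ x y = cs.simple k} = P) ∧ UniqLen cs (Jset S (rep L)) := by
  obtain ⟨x₀, -⟩ := h.hcov (S := S) 0
  obtain ⟨a, lab, hL⟩ := exists_lab (S := S) hth h.irr' h.hcov x₀
  have hJ := Jset_ne_univ (S := S) hth h.irr' rep_injective x₀
  have hpan : ∀ (x : C) (k : I), Nat.card {y : C // Δ.δ x y = cs.simple k} = Nat.card (Vx S (rep L) x₀) :=
    fun x k => card_panel (S := S) hth h.irr' h.hcov hL (hk _ hJ k) x
  exact ⟨a, lab, _, hL, hJ, hpan, uniqLen hL hpan x₀⟩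

/-- `a ≥ 2` -/
theorem Lab.two_le_a {a : ℕ} {lab : W → ℕ} {P : ℕ} (hL : Lab S (rep L) a lab P) (hJ : Jset S (rep L) ≠ Set.univ)
    (hpan : ∀ (x : C) (k : I), Nat.card {y : C // Δ.δ x y = cs.simple k} = P) (x : C) :
    ∃ i, i ∉ Jset S (rep L) ∧ IsMinR cs (Jset S (rep L)) (cs.simple i) ∧ lab (cs.simple i) = 1 ∧ 2 ≤ a := by
  obtain ⟨i, hi⟩ : ∃ i, i ∉ Jset S (rep L) := by
    by_contra hcon
    push Not at hcon
    exact hJ (Set.eq_univ_of_forall hcon)
  have h1 := isMinR_simple (cs := cs) hi
  have h2 : lab (cs.simple i) = 1 := by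
    rw [lab_eq hL hpan x h1, cs.length_simple]
  have h3 := hL.lt _ h1
  exact ⟨i, hi, h1, h2, by omega⟩

end bldg

/-- `F` is the field of all the scalars commuting with `L`. -/
structure IsScal (L : Subgroup (V ≃ₗ[ZMod p] V)) (F : Type) [Field F] [Module F V] : Prop where
  lin : ∀ g ∈ L, ∀ (c : F) (v : V), g (c • v) = c • g v
  all : ∀ f : V →ₗ[ZMod p] V, (∀ g ∈ L, ∀ v, f (g v) = g (f v)) → ∃ c : F, ∀ v, f v = c • v

theorem endAlg_noZeroDiv (hirr : ∀ W : Submodule (ZMod p) V, (∀ g ∈ L, ∀ x ∈ W, g x ∈ W) → W = ⊥ ∨ W = ⊤)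
    {f : Module.End (ZMod p) V} (hf : f ∈ endAlg L) (h0 : f ≠ 0) : Function.Injective f := by
  rw [mem_endAlg] at hf
  rcases hirr (LinearMap.ker f) (fun g hg x hx => by
    rw [LinearMap.mem_ker] at hx ⊢
    rw [hf g hg, hx, map_zero]) with h1 | h1
  · exact LinearMap.ker_eq_bot.1 h1
  · exact absurd (LinearMap.ker_eq_top.1 h1) h0

/-- the field of the scalars -/
theorem exists_scal (hirr : ∀ W : Submodule (ZMod p) V, (∀ g ∈ L, ∀ x ∈ W, g x ∈ W) → W = ⊥ ∨ W = ⊤) :
    ∃ (F : Type) (_ : Field F) (_ : Fintype F) (_ : Module F V), Fintype.card F = Nat.card (endAlg L) ∧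
      IsScal L F := by
  classical
  let K := endAlg L
  have hfinE : Finite (Module.End (ZMod p) V) := DFunLike.finite _
  have hfin : Finite K := Subtype.finite
  have hdom : IsDomain K := by
    have : NoZeroDivisors K := by
      constructor
      intro a b hab
      by_contra hcon
      push Not at hcon
      apply hcon.2
      have h1 := endAlg_noZeroDiv hirr a.2 (fun h => hcon.1 (Subtype.ext h))
      apply Subtype.ext
      refine LinearMap.ext fun v => h1 ?_
      have h2 : (a.1 * b.1) v = 0 := by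
        have := congrArg Subtype.val hab
        exact LinearMap.congr_fun this v
      change a.1 (b.1 v) = a.1 0
      rw [map_zero]
      exact h2
    have : Nontrivial K := inferInstance
    exact NoZeroDivisors.to_isDomain K
  letI : Field K := (Finite.isDomain_to_isField K).toField
  have hsm : Small.{0} K := inferInstance
  let F := Shrink.{0} K
  letI iF : Field F := inferInstance
  have hfF : Finite F := Finite.of_equiv K (equivShrink K)
  letI : Fintype F := Fintype.ofFinite F
  let e : F ≃+* K := Shrink.ringEquiv K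
  let φ : F →+* Module.End (ZMod p) V := (endAlg L).val.toRingHom.comp e.toRingHom
  letI iM : Module F V := Module.compHom V φ
  have hsmul : ∀ (c : F) (v : V), c • v = (e c).1 v := fun c v => rfl
  refine ⟨F, iF, inferInstance, iM, ?_, ⟨?_, ?_⟩⟩
  · rw [← Nat.card_eq_fintype_card]
    exact Nat.card_congr e.toEquiv
  · intro g hg c v
    rw [hsmul, hsmul]
    exact (mem_endAlg.1 (e c).2 g hg v).symm
  · intro f hf
    refine ⟨e.symm ⟨f, mem_endAlg.2 hf⟩, fun v => ?_⟩
    rw [hsmul, RingEquiv.apply_symm_apply]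

theorem eq_one_or_simple {W : Type*} [Group W] {M : CoxeterMatrix (Fin 1)} (cs : CoxeterSystem M W) (w : W) :
    w = 1 ∨ w = cs.simple 0 := by
  induction w using cs.simple_induction_left with
  | one => exact Or.inl rfl
  | mul_simple_left w i ih =>
    obtain rfl : i = 0 := Subsingleton.elim _ _
    rcases ih with rfl | rfl
    · right; rw [mul_one]
    · left; exact cs.simple_mul_simple_self 0

/-- rank one: the `p`-subgroups are commutative -/
theorem DC.core_one (h : DC L) {M : CoxeterMatrix (Fin 1)} (hS : HasSysT p M L) :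
    ∀ Q : Subgroup L, IsPGroup p Q → ∀ x ∈ Q, ∀ y ∈ Q, x * y = y * x := by
  obtain ⟨W, C, i1, cs, i2, i3, Δ, i4, hth, ⟨S⟩⟩ := hS
  obtain ⟨a, lab, P, hL, hJ, hpan, hU⟩ := h.core_lab (S := S) hth (fun J hJ k => by
    refine ⟨1, fun hmem => ?_⟩
    rw [inv_one, one_mul, mul_one] at hmem
    have hJ0 : J = ∅ := by
      by_contra hne
      obtain ⟨j, hj⟩ := Set.nonempty_iff_ne_empty.2 hne
      apply hJ
      ext i
      obtain rfl : i = j := Subsingleton.elim _ _
      exact ⟨fun _ => trivial, fun _ => hj⟩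
    rw [hJ0] at hmem
    unfold WJ at hmem
    rw [Set.image_empty, Subgroup.closure_empty, Subgroup.mem_bot] at hmem
    exact Trace.simple_ne_one k hmem)
  obtain ⟨x, -⟩ := h.hcov (S := S) 0
  obtain ⟨i, hi, hi1, hi2, ha⟩ := hL.two_le_a hJ hpan x
  have ha2 : a = 2 := by
    obtain ⟨w, hw1, hw2⟩ := hL.ex (a - 1) (by omega)
    rw [lab_eq hL hpan x hw1] at hw2
    rcases eq_one_or_simple cs w with rfl | rfl
    · rw [cs.length_one] at hw2; omega
    · rw [cs.length_simple] at hw2; omega
  intro Q hQ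
  obtain ⟨z, hz⟩ := S.exists_fix Q hQ
  have h1 := S.max z Q hQ hz
  intro u hu u' hu'
  exact comm_U (S := S) hth h.irr' h.hcov hL ha2 rep_injective z u (h1 hu) u' (h1 hu')

/-- `M 0 1 = 8` -/
theorem DC.core_eight {L : Subgroup (V ≃ₗ[ZMod p] V)} (h : DC L) {M : CoxeterMatrix (Fin 2)} (hM : M 0 1 = 8)
    (hS : HasSysT p M L) : 8 ∣ (Nat.card L).factorization p := by
  obtain ⟨W, C, i1, cs, i2, i3, Δ, i4, hth, ⟨S⟩⟩ := hS
  obtain ⟨a, lab, P, hL, hJ, hpan, hU⟩ := h.core_lab (S := S) hth (fun J hJ k =>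
    exists_conj_not_mem_two cs (by rw [hM]; norm_num) hJ k)
  obtain ⟨x, -⟩ := h.hcov (S := S) 0
  have hP0 : 0 < P := lt_of_lt_of_le Nat.zero_lt_two hL.two_le
  have h1 := card_U (S := S) x
  rw [card_sph_pow hP0 hpan, Cfsg.Agent.SplitTwo.DihPath.length_w0 cs (a := 0) (b := 1) (m := 8)
    (by intro i; omega) hM] at h1
  obtain ⟨e, he⟩ : ∃ e, P = p ^ e := by
    rw [← hL.card_Vx x]
    exact ⟨_, by rw [Module.natCard_eq_pow_finrank (K := ZMod p) (V := Vx S (rep L) x), Nat.card_zmod]⟩
  -- `U x` is a Sylow subgroup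
  obtain ⟨Q, hQ⟩ := (S.isP x).exists_le_sylow
  obtain ⟨z, hz⟩ := S.exists_fix Q Q.isPGroup'
  have h2 := (S.max z Q Q.isPGroup' hz :)
  have h3 : Nat.card Q ≤ Nat.card (S.U z) := Subgroup.card_le_of_le h2
  have h4 : Nat.card (S.U x) ≤ Nat.card Q := Subgroup.card_le_of_le hQ
  have h5 := card_U (S := S) z
  rw [card_sph_pow hP0 hpan, Cfsg.Agent.SplitTwo.DihPath.length_w0 cs (a := 0) (b := 1) (m := 8)
    (by intro i; omega) hM] at h5
  have h6 : Nat.card Q = P ^ 8 := by omega
  rw [Sylow.card_eq_multiplicity, he, ← pow_mul] at h6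
  have h7 := Nat.pow_right_injective hp.out.two_le h6
  rw [h7]
  exact Dvd.intro_left e rfl

/-- only the unique length property -/
theorem DC.core_uniq (h : DC L) {I : Type*} [Fintype I] [DecidableEq I] [Nonempty I] {M : CoxeterMatrix I}
    {A : I → I → ℤ} (hA : IsCartan M A) (hc : KFacts.RgdCharP.Conn M) (hS : HasSysT p M L) :
    ∃ (W : Type u) (_ : Group W) (_ : Finite W) (cs : CoxeterSystem M W) (J : Set I), J ≠ Set.univ ∧ UniqLen cs J := by
  obtain ⟨W, C, i1, cs, i2, i3, Δ, i4, hth, ⟨S⟩⟩ := hS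
  obtain ⟨a, lab, P, hL, hJ, hpan, hU⟩ := h.core_lab (S := S) hth (fun J hJ k => exists_conj_not_mem cs hA hc hJ k)
  exact ⟨W, i1, i2, cs, _, hJ, hU⟩

theorem card_endAlg_eq (L : Subgroup (V ≃ₗ[ZMod p] V)) :
    Nat.card (endAlg L) = Nat.card {f : V →ₗ[ZMod p] V // ∀ g v, f (rep L g v) = rep L g (f v)} := by
  refine Nat.card_congr (Equiv.subtypeEquivRight fun f => ?_)
  rw [mem_endAlg]
  exact ⟨fun h g v => h g.1 g.2 v, fun h g hg v => h ⟨g, hg⟩ v⟩

end

end Cfsg.Agent.H50.Her
end

-- part: H858/HerUniq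
section
/-!
# The unique length property (helper858, for the HERING hub of helper50)

General tools:
* `card_le_of_length` : under `UniqLen` at most `k + 1` cosets of `W_J` contain an element of length `≤ k`; words:
  `false_of_words` (decidable);
* `mem_WJ_of_co`, `index_eq` : the functional `co i` determines the coset of `W_J`, `J = I ∖ {i}`; the index of `W_J` is
  the number of functionals;
* `uniq_compl` : `UniqLen` and `i ∉ J` imply `J = I ∖ {i}`; `false_of_two` : `i ∉ J` has at most one neighbour.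
The types `A_n`, `B_n`, `G_2`: `uniq_A`, `uniq_B`, `uniq_G`.
-/

set_option autoImplicit false
set_option linter.unusedSectionVars false

namespace Cfsg.Agent.H858.HerUniq

open CoxeterSystem Cfsg.Agent.ChevalleyStructure.CoxeterGeom Cfsg.Agent.Tits.Roots Cfsg.Agent.Tits.Core
  Cfsg.Agent.Tits.Exchange Cfsg.Agent.H905.DC Cfsg.Agent.H50.Her

section General

variable {I W : Type*} [Fintype I] [DecidableEq I] [Group W] {M : CoxeterMatrix I}
  (cs : CoxeterSystem M W) {A : I → I → ℤ} (h : IsCartan M A)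

/-- **few cosets contain short elements** -/
theorem card_le_of_length {J : Set I} (hU : UniqLen cs J) {i : I} (hi : i ∉ J) {ι : Type*} [Finite ι] {k : ℕ}
    (w : ι → W) (hw : Function.Injective fun a => co cs h i (w a)) (hl : ∀ a, cs.length (w a) ≤ k) :
    Nat.card ι ≤ k + 1 := by
  choose v hv u hu he using fun a => exists_isMinR cs J (w a)⁻¹
  have hle : ∀ a, cs.length (v a) < k + 1 := by
    intro a
    have h1 := hv a _ (hu a)
    rw [← he a, cs.length_inv] at h1
    have := hl a
    omega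
  have hinj : Function.Injective fun a => (⟨cs.length (v a), hle a⟩ : Fin (k + 1)) := by
    intro a b hab
    apply hw
    have h1 : v a = v b := hU _ _ (hv a) (hv b) (congrArg Fin.val hab)
    have h2 : w a = ((u a)⁻¹ * u b) * w b := by
      rw [← inv_inv (w a), he a, ← inv_inv (w b), he b, h1]
      group
    simp only
    rw [h2, co_mul_left cs h hi (mul_mem (inv_mem (hu a)) (hu b))]
  have := Nat.card_le_card_of_injective _ hinj
  rwa [Nat.card_eq_fintype_card (α := Fin (k + 1)), Fintype.card_fin] at this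

/-! ### the functional determines the coset -/

theorem co_mul_congr {i : I} {w w' : W} (hw : co cs h i w = co cs h i w') (v : W) :
    co cs h i (w * v) = co cs h i (w' * v) := by
  obtain ⟨ω, rfl⟩ := cs.wordProd_surjective v
  induction ω using List.reverseRecOn with
  | nil => rw [cs.wordProd_nil, mul_one, mul_one, hw]
  | append_singleton ω j ih =>
    rw [cs.wordProd_append, cs.wordProd_singleton, ← mul_assoc, ← mul_assoc, co_mul_simple, co_mul_simple, ih]

theorem mem_WJ_of_co_one {J : Set I} {i : I} (hJ : ∀ j, j ≠ i → j ∈ J) (n : ℕ) :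
    ∀ w : W, cs.length w = n → co cs h i w = sr i → w ∈ WJ cs J := by
  induction n with
  | zero =>
    intro w hw _
    rw [cs.length_eq_zero_iff.1 hw]
    exact one_mem _
  | succ n ih =>
    intro w hw hco
    have hne : w ≠ 1 := by
      rintro rfl
      rw [cs.length_one] at hw
      omega
    obtain ⟨m, hm⟩ := cs.exists_rightDescent_of_ne_one hne
    have hm' : cs.length (w * cs.simple m) < cs.length w := hm
    have h1 : co cs h i w m ≤ 0 := (lt_iff cs h w m).1 hm' i
    have hmi : m ≠ i := by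
      rintro rfl
      rw [hco, sr_self] at h1
      omega
    have h2 : co cs h i (w * cs.simple m) = sr i := by
      rw [co_mul_simple, hco]
      funext k
      change sr i k - A m k * sr i m = sr i k
      rw [sr_ne hmi, mul_zero, sub_zero]
    have h3 := ih (w * cs.simple m) (by
      rcases cs.length_mul_simple w m with h' | h' <;> omega) h2
    have h4 : w = w * cs.simple m * cs.simple m := by
      rw [mul_assoc, cs.simple_mul_simple_self, mul_one]
    rw [h4]
    exact mul_mem h3 (simple_mem_WJ cs (hJ m hmi))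

theorem mem_WJ_of_co {J : Set I} {i : I} (hJ : ∀ j, j ≠ i → j ∈ J) {w w' : W} (hw : co cs h i w = co cs h i w') :
    w * w'⁻¹ ∈ WJ cs J := by
  have h1 := co_mul_congr cs h hw w'⁻¹
  rw [mul_inv_cancel, co_one] at h1
  exact mem_WJ_of_co_one cs h hJ _ _ rfl h1

include h in
/-- **The index of `W_J`**, `J = I ∖ {i}`, is the number of functionals. -/
theorem index_eq {J : Set I} {i : I} (hi : i ∉ J) (hJ : ∀ j, j ≠ i → j ∈ J) {N : ℕ}
    (f : Fin N → I → ℤ) (hf : Function.Injective f) (hN : 0 < N) (h0 : f ⟨0, hN⟩ = sr i)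
    (hcl : ∀ k j, ∃ k', fire A (f k) j = f k')
    (hr : ∀ k : Fin N, (k : ℕ) ≠ 0 → ∃ k' < k, ∃ j, fire A (f k') j = f k) : (WJ cs J).index = N := by
  have hmem : ∀ w : W, ∃ k, co cs h i w = f k := by
    intro w
    obtain ⟨ω, rfl⟩ := cs.wordProd_surjective w
    induction ω using List.reverseRecOn with
    | nil => exact ⟨_, by rw [cs.wordProd_nil, co_one, h0]⟩
    | append_singleton ω j ih =>
      obtain ⟨k, hk⟩ := ih
      rw [cs.wordProd_append, cs.wordProd_singleton, co_mul_simple, hk]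
      exact hcl k j
  have hreach : ∀ n : ℕ, ∀ k : Fin N, (k : ℕ) = n → ∃ w : W, co cs h i w = f k := by
    intro n
    induction n using Nat.strong_induction_on with
    | _ n ih =>
      intro k hk
      by_cases hk0 : (k : ℕ) = 0
      · refine ⟨1, ?_⟩
        rw [co_one, ← h0]
        congr 1
        exact Fin.ext hk0.symm
      · obtain ⟨k', hk', j, hj⟩ := hr k hk0
        obtain ⟨w, hw⟩ := ih k' (by rw [← hk]; exact hk') k' rfl
        exact ⟨w * cs.simple j, by rw [co_mul_simple, hw, hj]⟩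
  choose w hw using fun k : Fin N => hreach k k rfl
  -- the bijection
  have hbij : Function.Bijective fun k : Fin N => (QuotientGroup.mk (w k)⁻¹ : W ⧸ WJ cs J) := by
    constructor
    · intro a b hab
      apply hf
      have h1 : w a * (w b)⁻¹ ∈ WJ cs J := by
        have := QuotientGroup.eq.1 hab
        rwa [inv_inv] at this
      have h2 := co_mul_left cs h hi h1 (w b)
      rw [inv_mul_cancel_right] at h2
      rw [← hw a, ← hw b, h2]
    · intro x
      obtain ⟨y, rfl⟩ := QuotientGroup.mk_surjective x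
      obtain ⟨k, hk⟩ := hmem y⁻¹
      refine ⟨k, ?_⟩
      apply QuotientGroup.eq.2
      rw [inv_inv]
      have h1 : co cs h i (w k) = co cs h i y⁻¹ := by rw [hw k, hk]
      have h2 := mem_WJ_of_co cs h hJ h1
      rwa [inv_inv] at h2
  have := Nat.card_congr (Equiv.ofBijective _ hbij)
  rw [Nat.card_eq_fintype_card, Fintype.card_fin] at this
  exact this.symm

/-! ### `J` is the complement of a node with at most one neighbour -/

include h in
theorem isMinR_simple {J : Set I} {i : I} (hi : i ∉ J) : IsMinR cs J (cs.simple i) := by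
  rw [isMinR_iff]
  intro k hk
  have hki : k ≠ i := fun e => hi (e ▸ hk)
  rw [lt_iff' cs h]
  change 0 ≤ _root_.Cfsg.Agent.ChevalleyStructure.CoxeterGeom.rep cs h (cs.simple i) (sr k)
  intro m
  have h1 := cartan_nonpos h hki.symm
  rw [rep_simple, sr, refl_single, mul_one]
  change 0 ≤ (Pi.single k 1 : I → ℤ) m - (Pi.single i (A i k) : I → ℤ) m
  rw [Pi.single_apply, Pi.single_apply]
  (first | (lia; done) | (split_ifs <;> omega))

include h in
/-- **`J` is the complement of `i`.** -/
theorem uniq_compl {J : Set I} (hU : UniqLen cs J) {i j : I} (hi : i ∉ J) (hj : j ∉ J) : i = j := by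
  by_contra hne
  have h1 := hU _ _ (isMinR_simple cs h hi) (isMinR_simple cs h hj) (by rw [cs.length_simple, cs.length_simple])
  have h2 : _root_.Cfsg.Agent.ChevalleyStructure.CoxeterGeom.rep cs h (cs.simple i) (sr i) i = _root_.Cfsg.Agent.ChevalleyStructure.CoxeterGeom.rep cs h (cs.simple j) (sr i) i := by rw [h1]
  rw [rep_simple_sr, rep_simple_apply cs h j _ i hne, Pi.neg_apply, sr_self] at h2
  omega

include h in
theorem exists_node {J : Set I} (hU : UniqLen cs J) (hJ : J ≠ Set.univ) :
    ∃ i, i ∉ J ∧ ∀ j, j ≠ i → j ∈ J := by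
  obtain ⟨i, hi⟩ : ∃ i, i ∉ J := by
    by_contra hcon
    push Not at hcon
    exact hJ (Set.eq_univ_of_forall hcon)
  refine ⟨i, hi, fun j hj => ?_⟩
  by_contra hcon
  exact hj (uniq_compl cs h hU hcon hi)

include h in
/-- **`i ∉ J` has at most one neighbour.** -/
theorem false_of_two {J : Set I} (hU : UniqLen cs J) {i a b : I} (hi : i ∉ J) (hai : a ≠ i) (hbi : b ≠ i) (hab : a ≠ b)
    (ha : A i a ≠ 0) (hb : A i b ≠ 0) : False := by
  have hna : A i a < 0 := lt_of_le_of_ne (cartan_nonpos h hai.symm) ha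
  have hnb : A i b < 0 := lt_of_le_of_ne (cartan_nonpos h hbi.symm) hb
  have hnab := cartan_nonpos h hab
  have hnba := cartan_nonpos h hab.symm
  have c0a : sr i a = 0 := sr_ne hai
  have c0b : sr i b = 0 := sr_ne hbi
  have c0i : sr i i = 1 := sr_self i
  have hw : ∀ m, co cs h i (cs.simple i) m = sr i m - A i m := by
    intro m
    rw [← one_mul (cs.simple i), co_mul_simple, co_one]
    change sr i m - A i m * sr i i = _
    rw [c0i, mul_one]
  have hwk : ∀ k m, co cs h i (cs.simple i * cs.simple k) m = (sr i m - A i m) - A k m * (sr i k - A i k) := by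
    intro k m
    rw [co_mul_simple]
    change co cs h i (cs.simple i) m - A k m * co cs h i (cs.simple i) k = _
    rw [hw, hw]
  have h1a := hw a
  have h1b := hw b
  have haa := hwk a a
  have haab := hwk a b
  have hba := hwk b a
  have hbb := hwk b b
  rw [c0a] at h1a haa hba
  rw [c0b] at h1b haab hbb
  rw [c0a] at haab
  rw [c0b] at hba
  rw [h.diag] at haa hbb
  have e1 : co cs h i 1 a = 0 := by rw [co_one]; exact c0a
  have e2 : co cs h i 1 b = 0 := by rw [co_one]; exact c0b
  -- four elements of length at most two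
  have key := card_le_of_length cs h hU hi (ι := Fin 4) (k := 2)
    ![1, cs.simple i, cs.simple i * cs.simple a, cs.simple i * cs.simple b] (by
      intro x y hxy
      have hxa := congrFun hxy a
      have hxb := congrFun hxy b
      fin_cases x <;> fin_cases y <;> first
        | rfl
        | (exfalso
           simp only [Fin.mk_zero, Fin.mk_one, Fin.reduceFinMk, Matrix.cons_val] at hxa hxb
           try simp at hxa hxb
           nlinarith only [h, hna, h1a, e1, hxa, haa, hnb, hbb, e2, hxb, h1b, hnab, haab]))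
    (by
      intro x
      have l1 : ∀ k, cs.length (cs.simple i * cs.simple k) ≤ 2 := by
        intro k
        have := cs.length_mul_le (cs.simple i) (cs.simple k)
        rw [cs.length_simple, cs.length_simple] at this
        exact this
      fin_cases x
      · simp
      · simp
      · exact l1 a
      · exact l1 b)
  rw [Nat.card_eq_fintype_card, Fintype.card_fin] at key
  omega

end General

/-! ### type `A_n` -/

section TypeA

open Cfsg.Agent.LieRecognition.BNCox Cfsg.Agent.Nodes.RootsA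

/-- the weight `ε_k` as a functional on the simple roots -/
def fA (n k : ℕ) (m : Fin n) : ℤ := (if (m : ℕ) = k then 1 else 0) - if (m : ℕ) + 1 = k then 1 else 0

/-- the weight `-ε_(n-k)` as a functional on the simple roots -/
def gA (n k : ℕ) (m : Fin n) : ℤ := (if (m : ℕ) + 1 + k = n then 1 else 0) - if (m : ℕ) + k = n then 1 else 0

theorem fire_fA {n : ℕ} (k : ℕ) (j : Fin n) : fire (AA n) (fA n k) j =
    fA n (if (j : ℕ) = k then k + 1 else if (j : ℕ) + 1 = k then k - 1 else k) := by
  funext m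
  have := j.2
  have := m.2
  unfold fire fA AA
  simp only [Fin.ext_iff]
  (first | (lia; done) | (split_ifs <;> omega))

theorem fire_gA {n : ℕ} (k : ℕ) (j : Fin n) : fire (AA n) (gA n k) j =
    gA n (if (j : ℕ) + 1 + k = n then k + 1 else if (j : ℕ) + k = n then k - 1 else k) := by
  funext m
  have := j.2
  have := m.2
  unfold fire gA AA
  simp only [Fin.ext_iff]
  (first | (lia; done) | (split_ifs <;> omega))

theorem uniq_A {W : Type*} [Group W] [Finite W] {n : ℕ} (cs : CoxeterSystem (cA n) W) {J : Set (Fin n)}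
    (hJ : J ≠ Set.univ) (hU : UniqLen cs J) : (WJ cs J).index = n + 1 := by
  have h := isCartan n
  obtain ⟨i, hi, hJi⟩ := exists_node cs h hU hJ
  have hin := i.2
  by_cases h0 : (i : ℕ) = 0
  · refine index_eq cs h hi hJi (N := n + 1) (fun k => fA n k) ?_ (Nat.succ_pos n) ?_ ?_ ?_
    · intro a b hab
      have ha := a.2
      have hb := b.2
      by_contra hne
      have hne' : (a : ℕ) ≠ b := fun e => hne (Fin.ext e)
      by_cases han : (a : ℕ) < n
      · have := congrFun hab ⟨a, han⟩
        simp only [fA] at this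
        (first | (lia; done) | (split_ifs at this <;> omega))
      · have := congrFun hab ⟨b, by omega⟩
        simp only [fA] at this
        (first | (lia; done) | (split_ifs at this <;> omega))
    · funext m
      change fA n 0 m = sr i m
      rw [sr, Pi.single_apply]
      simp only [fA, Fin.ext_iff]
      split_ifs <;> first | omega | (exfalso; assumption)
    · intro k j
      refine ⟨⟨if (j : ℕ) = k then k + 1 else if (j : ℕ) + 1 = k then k - 1 else k, ?_⟩, fire_fA _ _⟩
      have := j.2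
      have := k.2
      split_ifs <;> omega
    · intro k hk
      have := k.2
      refine ⟨⟨k - 1, by omega⟩, ?_, ⟨k - 1, by omega⟩, ?_⟩
      · rw [Fin.lt_def]
        change (k : ℕ) - 1 < k
        omega
      · rw [fire_fA]
        congr 1
        rw [if_pos rfl]
        change (k : ℕ) - 1 + 1 = k
        omega
  · have h1 : (i : ℕ) + 1 = n := by
      by_contra h1
      refine false_of_two cs h hU (i := i) (a := ⟨i - 1, by omega⟩) (b := ⟨i + 1, by omega⟩) hi ?_ ?_ ?_ ?_ ?_
      · intro e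
        have := congrArg Fin.val e
        simp only at this
        omega
      · intro e
        have := congrArg Fin.val e
        simp only at this
        omega
      · intro e
        have := congrArg Fin.val e
        simp only at this
        omega
      · unfold AA
        rw [if_neg (fun e => by have := congrArg Fin.val e; simp only at this; omega), if_pos (Or.inr (by
          change (i : ℕ) - 1 + 1 = i
          omega))]
        decide
      · unfold AA
        rw [if_neg (fun e => by have := congrArg Fin.val e; simp only at this; omega), if_pos (Or.inl rfl)]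
        decide
    refine index_eq cs h hi hJi (N := n + 1) (fun k => gA n k) ?_ (Nat.succ_pos n) ?_ ?_ ?_
    · intro a b hab
      have ha := a.2
      have hb := b.2
      by_contra hne
      have hne' : (a : ℕ) ≠ b := fun e => hne (Fin.ext e)
      by_cases han : (a : ℕ) < n
      · have := congrFun hab ⟨n - 1 - a, by omega⟩
        simp only [gA] at this
        (first | (lia; done) | (split_ifs at this <;> omega))
      · have := congrFun hab ⟨n - 1 - b, by omega⟩
        simp only [gA] at this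
        (first | (lia; done) | (split_ifs at this <;> omega))
    · funext m
      change gA n 0 m = sr i m
      rw [sr, Pi.single_apply]
      have := m.2
      simp only [gA, Fin.ext_iff]
      (first | (lia; done) | (split_ifs <;> omega))
    · intro k j
      refine ⟨⟨if (j : ℕ) + 1 + k = n then k + 1 else if (j : ℕ) + k = n then k - 1 else k, ?_⟩, fire_gA _ _⟩
      have := j.2
      have := k.2
      (first | (lia; done) | (split_ifs <;> omega))
    · intro k hk
      have := k.2
      refine ⟨⟨k - 1, by omega⟩, ?_, ⟨n - k, by omega⟩, ?_⟩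
      · rw [Fin.lt_def]
        change (k : ℕ) - 1 < k
        omega
      · rw [fire_gA]
        congr 1
        change (if n - (k : ℕ) + 1 + (k - 1) = n then (k : ℕ) - 1 + 1 else _) = k
        rw [if_pos (by omega)]
        omega

end TypeA

/-! ### type `B_n` -/

section TypeB

/-- the Cartan matrix of type `B_n` (the last root is short) -/
def AB (n : ℕ) (i j : Fin n) : ℤ := Nodes.TypeC.A n j i

theorem isCartan_AB (n : ℕ) : IsCartan (CoxeterMatrix.B n) (AB n) where
  diag i := (Nodes.TypeC.isCartan n).diag i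
  rel i j hij := by
    have h1 : CoxeterMatrix.B n i j = CoxeterMatrix.B n j i := (CoxeterMatrix.B n).symmetric i j
    rw [h1]
    exact (Nodes.TypeC.isCartan n).rel j i hij.symm

theorem AB_apply {n : ℕ} (i j : Fin n) : AB n i j = if i = j then 2 else
    if (j : ℕ) + 1 = i then (if (i : ℕ) + 1 < n then -1 else -2) else if (i : ℕ) + 1 = j then -1 else 0 := by
  unfold AB
  rw [Nodes.TypeC.A_apply]
  simp only [Fin.ext_iff, eq_comm (a := (j : ℕ)) (b := (i : ℕ))]

/-- the weight `ε_k` as a functional on the simple roots -/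
def pB (n k : ℕ) (m : Fin n) : ℤ := (if (m : ℕ) = k then 1 else 0) - if (m : ℕ) + 1 = k then 1 else 0

/-- the weights `ε_k`, `-ε_k` as functionals on the simple roots -/
def fB (n k : ℕ) : Fin n → ℤ := if k < n then pB n k else -pB n (2 * n - 1 - k)

theorem fire_neg {I : Type*} (A : I → I → ℤ) (c : I → ℤ) (j : I) : fire A (-c) j = -fire A c j := by
  funext m
  change -c m - A j m * -c j = -(c m - A j m * c j)
  ring

theorem fire_pB_eq {n k : ℕ} (j : Fin n) (hj : (j : ℕ) = k) (hk : k + 1 < n) :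
    fire (AB n) (pB n k) j = pB n (k + 1) := by
  funext m
  have := j.2
  have := m.2
  unfold fire pB
  rw [AB_apply, if_pos hj, if_neg (show ¬ (j : ℕ) + 1 = k by omega)]
  simp only [Fin.ext_iff]
  (first | (lia; done) | (split_ifs <;> omega))

theorem fire_pB_last {n k : ℕ} (j : Fin n) (hj : (j : ℕ) = k) (hk : k + 1 = n) :
    fire (AB n) (pB n k) j = -pB n k := by
  funext m
  have := j.2
  have := m.2
  change _ = - pB n k m
  unfold fire pB
  rw [AB_apply, if_pos hj, if_neg (show ¬ (j : ℕ) + 1 = k by omega)]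
  simp only [Fin.ext_iff]
  (first | (lia; done) | (split_ifs <;> omega))

theorem fire_pB_pred {n k : ℕ} (j : Fin n) (hj : (j : ℕ) + 1 = k) (hk : k < n) :
    fire (AB n) (pB n k) j = pB n (k - 1) := by
  funext m
  have := j.2
  have := m.2
  unfold fire pB
  rw [AB_apply, if_neg (show ¬ (j : ℕ) = k by omega), if_pos hj]
  simp only [Fin.ext_iff]
  (first | (lia; done) | (split_ifs <;> omega))

theorem fire_pB_ne {n k : ℕ} (j : Fin n) (hj : (j : ℕ) ≠ k) (hj' : (j : ℕ) + 1 ≠ k) :
    fire (AB n) (pB n k) j = pB n k := by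
  funext m
  unfold fire
  have : pB n k j = 0 := by
    unfold pB
    rw [if_neg hj, if_neg hj', sub_zero]
  rw [this, mul_zero, sub_zero]

theorem fire_fB {n : ℕ} (k : ℕ) (hk : k < 2 * n) (j : Fin n) :
    ∃ k' < 2 * n, fire (AB n) (fB n k) j = fB n k' := by
  have hj := j.2
  unfold fB
  by_cases hkn : k < n
  · rw [if_pos hkn]
    by_cases h1 : (j : ℕ) = k
    · by_cases h2 : k + 1 < n
      · exact ⟨k + 1, by omega, by rw [fire_pB_eq j h1 h2, if_pos h2]⟩
      · refine ⟨k + 1, by omega, ?_⟩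
        rw [fire_pB_last j h1 (by omega), if_neg h2]
        congr 2
        omega
    · by_cases h2 : (j : ℕ) + 1 = k
      · exact ⟨k - 1, by omega, by rw [fire_pB_pred j h2 hkn, if_pos (by omega)]⟩
      · exact ⟨k, hk, by rw [fire_pB_ne j h1 h2, if_pos hkn]⟩
  · rw [if_neg hkn, fire_neg]
    by_cases h1 : (j : ℕ) = 2 * n - 1 - k
    · by_cases h2 : 2 * n - 1 - k + 1 < n
      · refine ⟨k - 1, by omega, ?_⟩
        rw [fire_pB_eq j h1 h2, if_neg (by omega)]
        congr 2
        omega
      · refine ⟨k - 1, by omega, ?_⟩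
        rw [fire_pB_last j h1 (by omega), if_pos (by omega), neg_neg]
        congr 1
        omega
    · by_cases h2 : (j : ℕ) + 1 = 2 * n - 1 - k
      · refine ⟨k + 1, by omega, ?_⟩
        rw [fire_pB_pred j h2 (by omega), if_neg (by omega)]
        congr 2
      · exact ⟨k, hk, by rw [fire_pB_ne j h1 h2, if_neg hkn]⟩

theorem fB_injective {n : ℕ} {a b : ℕ} (ha : a < 2 * n) (hb : b < 2 * n) (hab : fB n a = fB n b) : a = b := by
  -- the first nonzero coordinate and its sign
  unfold fB at hab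
  have key : ∀ k k' : ℕ, k < n → k' < n → pB n k = pB n k' → k = k' := by
    intro k k' hk hk' he
    by_contra hne
    have h1 := congrFun he ⟨k, hk⟩
    have h2 := congrFun he ⟨k', hk'⟩
    simp only [pB] at h1 h2
    (first | (lia; done) | (split_ifs at h1 h2 <;> omega))
  have key' : ∀ k k' : ℕ, k < n → k' < n → pB n k ≠ -pB n k' := by
    intro k k' hk hk' he
    have h1 := congrFun he ⟨k, hk⟩
    have h2 := congrFun he ⟨k', hk'⟩
    change pB n k ⟨k, hk⟩ = -pB n k' ⟨k, hk⟩ at h1
    change pB n k ⟨k', hk'⟩ = -pB n k' ⟨k', hk'⟩ at h2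
    simp only [pB] at h1 h2
    (first | (lia; done) | (split_ifs at h1 h2 <;> omega))
  split_ifs at hab with h1 h2 h2
  · exact key _ _ h1 h2 hab
  · exact absurd hab (key' _ _ h1 (by omega))
  · exact absurd hab.symm (key' _ _ h2 (by omega))
  · have := key _ _ (by omega) (by omega) (neg_injective hab)
    omega

/-- `J` is the complement of the node `0` -/
theorem index_B_zero {W : Type*} [Group W] {n : ℕ} (cs : CoxeterSystem (CoxeterMatrix.B n) W)
    {J : Set (Fin n)} {i : Fin n} (hi : i ∉ J) (hJ : ∀ j, j ≠ i → j ∈ J) (h0 : (i : ℕ) = 0) :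
    (WJ cs J).index = 2 * n := by
  have hin := i.2
  refine index_eq cs (isCartan_AB n) hi hJ (N := 2 * n) (fun k => fB n k) ?_ (by omega) ?_ ?_ ?_
  · intro a b hab
    exact Fin.ext (fB_injective a.2 b.2 hab)
  · funext m
    have := m.2
    change fB n 0 m = sr i m
    rw [fB, if_pos (by omega), sr, Pi.single_apply]
    simp only [pB, Fin.ext_iff]
    split_ifs <;> first | omega | (exfalso; assumption)
  · intro k j
    obtain ⟨k', hk', e⟩ := fire_fB k k.2 j
    exact ⟨⟨k', hk'⟩, e⟩
  · intro k hk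
    have hk2 := k.2
    refine ⟨⟨k - 1, by omega⟩, ?_, ?_⟩
    · rw [Fin.lt_def]
      change (k : ℕ) - 1 < k
      omega
    · change ∃ j, fire (AB n) (fB n ((k : ℕ) - 1)) j = fB n k
      by_cases h1 : (k : ℕ) < n
      · refine ⟨⟨k - 1, by omega⟩, ?_⟩
        rw [fB, if_pos (by omega), fB, if_pos h1,
          fire_pB_eq (k := (k : ℕ) - 1) ⟨(k : ℕ) - 1, by omega⟩ rfl (by omega)]
        congr 1
        omega
      · by_cases h2 : (k : ℕ) = n
        · refine ⟨⟨k - 1, by omega⟩, ?_⟩
          rw [fB, if_pos (by omega), fB, if_neg h1,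
            fire_pB_last (k := (k : ℕ) - 1) ⟨(k : ℕ) - 1, by omega⟩ rfl (by omega)]
          congr 2
          omega
        · refine ⟨⟨2 * n - 1 - k, by omega⟩, ?_⟩
          rw [fB, if_neg (by omega), fB, if_neg h1, fire_neg, fire_pB_pred _ (k := 2 * n - 1 - (k - 1))
            (show 2 * n - 1 - (k : ℕ) + 1 = _ by omega) (by omega)]
          congr 2
          omega

/-- the last node is impossible for `n ≥ 3` -/
theorem false_B_last {W : Type*} [Group W] {n : ℕ} (cs : CoxeterSystem (CoxeterMatrix.B n) W)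
    {J : Set (Fin n)} (hU : UniqLen cs J) {i : Fin n} (hi : i ∉ J) (h0 : (i : ℕ) + 1 = n) (hn : 3 ≤ n) : False := by
  have h := isCartan_AB n
  set! a : Fin n := ⟨n - 2, by omega⟩ with ha
  set! b : Fin n := ⟨n - 3, by omega⟩ with hb
  have hai : a ≠ i := fun e => by have := congrArg Fin.val e; simp only [ha] at this; omega
  have hbi : b ≠ i := fun e => by have := congrArg Fin.val e; simp only [hb] at this; omega
  have hab : a ≠ b := fun e => by have := congrArg Fin.val e; simp only [ha, hb] at this; omega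
  have Aii : AB n i i = 2 := h.diag i
  have Aaa : AB n a a = 2 := h.diag a
  have Abb : AB n b b = 2 := h.diag b
  have Aia : AB n i a = -2 := by
    rw [AB_apply, if_neg hai.symm, if_pos (show n - 2 + 1 = (i : ℕ) by omega), if_neg (by omega)]
  have Aib : AB n i b = 0 := by
    rw [AB_apply, if_neg hbi.symm, if_neg (show ¬ n - 3 + 1 = (i : ℕ) by omega),
      if_neg (show ¬ (i : ℕ) + 1 = n - 3 by omega)]
  have Aai : AB n a i = -1 := by
    rw [AB_apply, if_neg hai, if_neg (show ¬ (i : ℕ) + 1 = n - 2 by omega), if_pos (show n - 2 + 1 = (i : ℕ) by omega)]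
  have Aab : AB n a b = -1 := by
    rw [AB_apply, if_neg hab, if_pos (show n - 3 + 1 = n - 2 by omega), if_pos (show n - 2 + 1 < n by omega)]
  have Abi : AB n b i = 0 := by
    rw [AB_apply, if_neg hbi, if_neg (show ¬ (i : ℕ) + 1 = n - 3 by omega),
      if_neg (show ¬ n - 3 + 1 = (i : ℕ) by omega)]
  have Aba : AB n b a = -1 := by
    rw [AB_apply, if_neg hab.symm, if_neg (show ¬ n - 2 + 1 = n - 3 by omega), if_pos (show n - 3 + 1 = n - 2 by omega)]
  have f0 : ∀ m, co cs h i 1 m = sr i m := fun m => by rw [co_one]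
  have e0i : co cs h i 1 i = 1 := by rw [f0, sr_self]
  have e0a : co cs h i 1 a = 0 := by rw [f0, sr_ne hai]
  have e0b : co cs h i 1 b = 0 := by rw [f0, sr_ne hbi]
  have step : ∀ (w : W) (j m : Fin n), co cs h i (w * cs.simple j) m = co cs h i w m - AB n j m * co cs h i w j := by
    intro w j m
    rw [co_mul_simple]
    rfl
  set! w1 := 1 * cs.simple i with hw1
  have e1i : co cs h i w1 i = -1 := by rw [hw1, step, e0i, Aii]; norm_num
  have e1a : co cs h i w1 a = 2 := by rw [hw1, step, e0i, e0a, Aia]; norm_num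
  have e1b : co cs h i w1 b = 0 := by rw [hw1, step, e0i, e0b, Aib]; norm_num
  set! w2 := w1 * cs.simple a with hw2
  have e2i : co cs h i w2 i = 1 := by rw [hw2, step, e1i, e1a, Aai]; norm_num
  have e2a : co cs h i w2 a = -2 := by rw [hw2, step, e1a, Aaa]; norm_num
  have e2b : co cs h i w2 b = 2 := by rw [hw2, step, e1b, e1a, Aab]; norm_num
  set! w3 := w2 * cs.simple b with hw3
  have e3i : co cs h i w3 i = 1 := by rw [hw3, step, e2i, e2b, Abi]; norm_num
  have e3a : co cs h i w3 a = 0 := by rw [hw3, step, e2a, e2b, Aba]; norm_num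
  have e3b : co cs h i w3 b = -2 := by rw [hw3, step, e2b, Abb]; norm_num
  set! w4 := w2 * cs.simple i with hw4
  have e4i : co cs h i w4 i = -1 := by rw [hw4, step, e2i, Aii]; norm_num
  have e4a : co cs h i w4 a = 0 := by rw [hw4, step, e2a, e2i, Aia]; norm_num
  have e4b : co cs h i w4 b = 2 := by rw [hw4, step, e2b, e2i, Aib]; norm_num
  have l1 : cs.length w1 ≤ 1 := by rw [hw1, one_mul, cs.length_simple]
  have l2 : cs.length w2 ≤ 2 := by
    have := cs.length_mul_le w1 (cs.simple a)
    rw [cs.length_simple, ← hw2] at this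
    omega
  have l3 : cs.length w3 ≤ 3 := by
    have := cs.length_mul_le w2 (cs.simple b)
    rw [cs.length_simple, ← hw3] at this
    omega
  have l4 : cs.length w4 ≤ 3 := by
    have := cs.length_mul_le w2 (cs.simple i)
    rw [cs.length_simple, ← hw4] at this
    omega
  have key := card_le_of_length cs h hU hi (ι := Fin 5) (k := 3) ![1, w1, w2, w3, w4] (by
      intro x y hxy
      have hxi := congrFun hxy i
      have hxa := congrFun hxy a
      have hxb := congrFun hxy b
      fin_cases x <;> fin_cases y <;> first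
        | rfl
        | (exfalso
           simp only [Fin.mk_zero, Fin.mk_one, Fin.reduceFinMk, Matrix.cons_val] at hxi hxa hxb
           (clear * - hn h e0i e1i hxi e0a e2a hxa e0b e3b hxb e4i e2i e3i e1a e4a e3a; omega)))
    (by
      intro x
      fin_cases x
      · simp
      · exact l1.trans (by norm_num)
      · exact l2.trans (by norm_num)
      · exact l3
      · exact l4)
  rw [Nat.card_eq_fintype_card, Fintype.card_fin] at key
  omega

theorem uniq_B {W : Type*} [Group W] [Finite W] {n : ℕ} (hn : 1 ≤ n) (cs : CoxeterSystem (CoxeterMatrix.B n) W)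
    {J : Set (Fin n)} (hJ : J ≠ Set.univ) (hU : UniqLen cs J) : (WJ cs J).index = 2 * n := by
  have h := isCartan_AB n
  obtain ⟨i, hi, hJi⟩ := exists_node cs h hU hJ
  have hin := i.2
  by_cases h0 : (i : ℕ) = 0
  · exact index_B_zero cs hi hJi h0
  by_cases h1 : (i : ℕ) + 1 = n
  · by_cases h3 : 3 ≤ n
    · exact (false_B_last cs hU hi h1 h3).elim
    · obtain rfl : n = 2 := by omega
      obtain rfl : i = 1 := Fin.ext (by simp; omega)
      refine index_eq cs h hi hJi (N := 4) ![![0, 1], ![2, -1], ![-2, 1], ![0, -1]] ?_ (by norm_num) ?_ ?_ ?_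
      · decide
      · decide
      · decide +kernel
      · decide
  · exfalso
    refine false_of_two cs h hU (i := i) (a := ⟨i - 1, by omega⟩) (b := ⟨i + 1, by omega⟩) hi ?_ ?_ ?_ ?_ ?_
    · intro e
      have := congrArg Fin.val e
      simp only at this
      omega
    · intro e
      have := congrArg Fin.val e
      simp only at this
      omega
    · intro e
      have := congrArg Fin.val e
      simp only at this
      omega
    · rw [AB_apply, if_neg (fun e => by have := congrArg Fin.val e; simp only at this; omega),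
        if_pos (show (i : ℕ) - 1 + 1 = i by omega)]
      split_ifs <;> decide
    · rw [AB_apply, if_neg (fun e => by have := congrArg Fin.val e; simp only at this; omega),
        if_neg (show ¬ (i : ℕ) + 1 + 1 = i by omega), if_pos rfl]
      decide

end TypeB

/-! ### type `G_2` -/

section TypeG

/-- the Cartan matrix of type `G_2` -/
def AG : Fin 2 → Fin 2 → ℤ := ![![2, -1], ![-3, 2]]

set_option backward.isDefEq.respectTransparency false in
theorem isCartan_AG : IsCartan CoxeterMatrix.G₂ AG := by constructor <;> decide +kernel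

theorem uniq_G {W : Type*} [Group W] [Finite W] (cs : CoxeterSystem CoxeterMatrix.G₂ W)
    {J : Set (Fin 2)} (hJ : J ≠ Set.univ) (hU : UniqLen cs J) : (WJ cs J).index = 6 := by
  obtain ⟨i, hi, hJi⟩ := exists_node cs isCartan_AG hU hJ
  fin_cases i
  · refine index_eq cs isCartan_AG hi hJi (N := 6) ![cf AG 0 [], cf AG 0 [0], cf AG 0 [0, 1], cf AG 0 [0, 1, 0],
      cf AG 0 [0, 1, 0, 1], cf AG 0 [0, 1, 0, 1, 0]] ?_ (by norm_num) ?_ ?_ ?_ <;> decide +kernel
  · refine index_eq cs isCartan_AG hi hJi (N := 6) ![cf AG 1 [], cf AG 1 [1], cf AG 1 [1, 0], cf AG 1 [1, 0, 1],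
      cf AG 1 [1, 0, 1, 0], cf AG 1 [1, 0, 1, 0, 1]] ?_ (by norm_num) ?_ ?_ ?_ <;> decide +kernel

end TypeG

end Cfsg.Agent.H858.HerUniq
end

-- part: H219/HerUniq
section
/-!
# Hering's theorem: the unique length property fails in types `F₄`, `E_l`, `D_l` (helper219)

`Legal A c ω` : the nodes of `ω` can be fired one after the other (numbers game), starting with the functional `c`.
`absurd_of_legal` : two legal sequences of the same length with different final functionals contradict `UniqLen`.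
-/

set_option autoImplicit false
set_option linter.unusedSectionVars false

namespace Cfsg.Agent.H219.HerUniq

open CoxeterSystem Cfsg.Agent.ChevalleyStructure.CoxeterGeom Cfsg.Agent.Tits.Roots Cfsg.Agent.Tits.Core
open Cfsg.Agent.Tits.Exchange Cfsg.Agent.H905.DC Cfsg.Agent.H50.Her

variable {I W : Type*} [Fintype I] [DecidableEq I] [Group W] {M : CoxeterMatrix I}
  (cs : CoxeterSystem M W) {A : I → I → ℤ} (h : IsCartan M A)

/-- the nodes of the list can be fired one after the other -/
def Legal (A : I → I → ℤ) : (I → ℤ) → List I → Prop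
  | _, [] => True
  | c, j :: ω => 0 < c j ∧ Legal A (fire A c j) ω

instance decLegal (A : I → I → ℤ) : ∀ (c : I → ℤ) (ω : List I), Decidable (Legal A c ω)
  | _, [] => inferInstanceAs (Decidable True)
  | c, j :: ω => by
    have := decLegal A (fire A c j) ω
    unfold Legal
    infer_instance

include h in
theorem minL_of_legal {J : Set I} {i : I} (hi : i ∉ J) (ω : List I) : ∀ w : W, IsMinL cs J w →
    Legal A (co cs h i w) ω → IsMinL cs J (w * cs.wordProd ω) ∧
      cs.length (w * cs.wordProd ω) = cs.length w + ω.length := by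
  induction ω with
  | nil =>
    intro w hw _
    rw [cs.wordProd_nil, mul_one]
    exact ⟨hw, rfl⟩
  | cons j ω ih =>
    intro w hw hl
    obtain ⟨h1, h2⟩ := hl
    rw [cs.wordProd_cons, ← mul_assoc]
    -- one step
    have key : ∀ v : W, 0 < co cs h i v j → cs.length (v * cs.simple j) = cs.length v + 1 := by
      intro v hv
      have h3 : 0 ≤ _root_.Cfsg.Agent.ChevalleyStructure.CoxeterGeom.rep cs h v (sr j) := by
        rcases nonneg_or_nonpos cs h v j with h4 | h4
        · exact h4
        · exfalso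
          have h5 : _root_.Cfsg.Agent.ChevalleyStructure.CoxeterGeom.rep cs h v (sr j) i ≤ 0 := h4 i
          have h6 : 0 < _root_.Cfsg.Agent.ChevalleyStructure.CoxeterGeom.rep cs h v (sr j) i := hv
          omega
      have h7 := (lt_iff' cs h v j).2 h3
      rcases cs.length_mul_simple v j with h8 | h8 <;> omega
    have hlen : cs.length (w * cs.simple j) = cs.length w + 1 := key w h1
    have hmin : IsMinL cs J (w * cs.simple j) := by
      intro u hu
      rw [← mul_assoc, key (u * w) (by rw [co_mul_left cs h hi hu]; exact h1), hw u hu, hlen]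
      omega
    have h3 := ih (w * cs.simple j) hmin (by rw [co_mul_simple]; exact h2)
    refine ⟨h3.1, ?_⟩
    rw [h3.2, hlen, List.length_cons]
    omega

include h in
/-- **two legal sequences of the same length** -/
theorem absurd_of_legal {J : Set I} {i : I} (hi : i ∉ J) (hU : UniqLen cs J) (ω ω' : List I)
    (h1 : Legal A (Pi.single i 1) ω) (h2 : Legal A (Pi.single i 1) ω') (hlen : ω.length = ω'.length)
    (hne : cf A i ω ≠ cf A i ω') : False := by
  have hone : IsMinL cs J 1 := by
    intro u _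
    rw [mul_one, cs.length_one, add_zero]
  have hco : co cs h i 1 = Pi.single i 1 := by rw [co_one]; rfl
  have h3 := minL_of_legal cs h hi ω 1 hone (by rw [hco]; exact h1)
  have h4 := minL_of_legal cs h hi ω' 1 hone (by rw [hco]; exact h2)
  rw [one_mul, cs.length_one, zero_add] at h3 h4
  have h5 := hU _ _ (isMinR_inv_iff cs |>.2 h3.1) (isMinR_inv_iff cs |>.2 h4.1)
    (by rw [cs.length_inv, cs.length_inv, h3.2, h4.2, hlen])
  have h6 : cs.wordProd ω = cs.wordProd ω' := inv_injective h5
  apply hne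
  rw [← co_wordProd cs h, ← co_wordProd cs h, h6]

theorem uniq_F {W : Type*} [Group W] [Finite W] (cs : CoxeterSystem CoxeterMatrix.F₄ W)
    {J : Set (Fin 4)} (hJ : J ≠ Set.univ) (hU : UniqLen cs J) : False := by
  obtain ⟨i, hi⟩ : ∃ i, i ∉ J := by
    by_contra hcon
    push Not at hcon
    exact hJ (Set.eq_univ_of_forall hcon)
  fin_cases i
  · exact absurd_of_legal cs isCartan_cF4 hi hU [0, 1, 2, 1] [0, 1, 2, 3] (by decide +kernel) (by decide +kernel) rfl (by decide +kernel)
  · exact absurd_of_legal cs isCartan_cF4 hi hU [1, 0] [1, 2] (by decide +kernel) (by decide +kernel) rfl (by decide +kernel)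
  · exact absurd_of_legal cs isCartan_cF4 hi hU [2, 1] [2, 3] (by decide +kernel) (by decide +kernel) rfl (by decide +kernel)
  · exact absurd_of_legal cs isCartan_cF4 hi hU [3, 2, 1, 0] [3, 2, 1, 2] (by decide +kernel) (by decide +kernel) rfl (by decide +kernel)

theorem uniq_E6 {W : Type*} [Group W] [Finite W] (cs : CoxeterSystem CoxeterMatrix.E₆ W)
    {J : Set (Fin 6)} (hJ : J ≠ Set.univ) (hU : UniqLen cs J) : False := by
  obtain ⟨i, hi⟩ : ∃ i, i ∉ J := by
    by_contra hcon
    push Not at hcon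
    exact hJ (Set.eq_univ_of_forall hcon)
  fin_cases i
  · exact absurd_of_legal cs isCartan_cE6 hi hU [0, 2, 3, 1] [0, 2, 3, 4] (by decide +kernel) (by decide +kernel) rfl (by decide +kernel)
  · exact absurd_of_legal cs isCartan_cE6 hi hU [1, 3, 2] [1, 3, 4] (by decide +kernel) (by decide +kernel) rfl (by decide +kernel)
  · exact absurd_of_legal cs isCartan_cE6 hi hU [2, 0] [2, 3] (by decide +kernel) (by decide +kernel) rfl (by decide +kernel)
  · exact absurd_of_legal cs isCartan_cE6 hi hU [3, 1] [3, 2] (by decide +kernel) (by decide +kernel) rfl (by decide +kernel)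
  · exact absurd_of_legal cs isCartan_cE6 hi hU [4, 3] [4, 5] (by decide +kernel) (by decide +kernel) rfl (by decide +kernel)
  · exact absurd_of_legal cs isCartan_cE6 hi hU [5, 4, 3, 1] [5, 4, 3, 2] (by decide +kernel) (by decide +kernel) rfl (by decide +kernel)

theorem uniq_E7 {W : Type*} [Group W] [Finite W] (cs : CoxeterSystem CoxeterMatrix.E₇ W)
    {J : Set (Fin 7)} (hJ : J ≠ Set.univ) (hU : UniqLen cs J) : False := by
  obtain ⟨i, hi⟩ : ∃ i, i ∉ J := by
    by_contra hcon
    push Not at hcon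
    exact hJ (Set.eq_univ_of_forall hcon)
  fin_cases i
  · exact absurd_of_legal cs isCartan_cE7 hi hU [0, 2, 3, 1] [0, 2, 3, 4] (by decide +kernel) (by decide +kernel) rfl (by decide +kernel)
  · exact absurd_of_legal cs isCartan_cE7 hi hU [1, 3, 2] [1, 3, 4] (by decide +kernel) (by decide +kernel) rfl (by decide +kernel)
  · exact absurd_of_legal cs isCartan_cE7 hi hU [2, 0] [2, 3] (by decide +kernel) (by decide +kernel) rfl (by decide +kernel)
  · exact absurd_of_legal cs isCartan_cE7 hi hU [3, 1] [3, 2] (by decide +kernel) (by decide +kernel) rfl (by decide +kernel)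
  · exact absurd_of_legal cs isCartan_cE7 hi hU [4, 3] [4, 5] (by decide +kernel) (by decide +kernel) rfl (by decide +kernel)
  · exact absurd_of_legal cs isCartan_cE7 hi hU [5, 4] [5, 6] (by decide +kernel) (by decide +kernel) rfl (by decide +kernel)
  · exact absurd_of_legal cs isCartan_cE7 hi hU [6, 5, 4, 3, 1] [6, 5, 4, 3, 2] (by decide +kernel) (by decide +kernel) rfl (by decide +kernel)

theorem uniq_E8 {W : Type*} [Group W] [Finite W] (cs : CoxeterSystem CoxeterMatrix.E₈ W)
    {J : Set (Fin 8)} (hJ : J ≠ Set.univ) (hU : UniqLen cs J) : False := by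
  obtain ⟨i, hi⟩ : ∃ i, i ∉ J := by
    by_contra hcon
    push Not at hcon
    exact hJ (Set.eq_univ_of_forall hcon)
  fin_cases i
  · exact absurd_of_legal cs isCartan_cE8 hi hU [0, 2, 3, 1] [0, 2, 3, 4] (by decide +kernel) (by decide +kernel) rfl (by decide +kernel)
  · exact absurd_of_legal cs isCartan_cE8 hi hU [1, 3, 2] [1, 3, 4] (by decide +kernel) (by decide +kernel) rfl (by decide +kernel)
  · exact absurd_of_legal cs isCartan_cE8 hi hU [2, 0] [2, 3] (by decide +kernel) (by decide +kernel) rfl (by decide +kernel)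
  · exact absurd_of_legal cs isCartan_cE8 hi hU [3, 1] [3, 2] (by decide +kernel) (by decide +kernel) rfl (by decide +kernel)
  · exact absurd_of_legal cs isCartan_cE8 hi hU [4, 3] [4, 5] (by decide +kernel) (by decide +kernel) rfl (by decide +kernel)
  · exact absurd_of_legal cs isCartan_cE8 hi hU [5, 4] [5, 6] (by decide +kernel) (by decide +kernel) rfl (by decide +kernel)
  · exact absurd_of_legal cs isCartan_cE8 hi hU [6, 5] [6, 7] (by decide +kernel) (by decide +kernel) rfl (by decide +kernel)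
  · exact absurd_of_legal cs isCartan_cE8 hi hU [7, 6, 5, 4, 3, 1] [7, 6, 5, 4, 3, 2] (by decide +kernel) (by decide +kernel) rfl (by decide +kernel)

/-! ### type `D` -/

theorem legal_append (A : I → I → ℤ) : ∀ (c : I → ℤ) (ω ω' : List I), Legal A c ω → Legal A (ω.foldl (fire A) c) ω' →
    Legal A c (ω ++ ω')
  | _, [], _, _, h2 => h2
  | _, j :: ω, ω', h1, h2 => ⟨h1.1, legal_append A _ ω ω' h1.2 h2⟩

open Cfsg.Agent.Nodes.TypeD in
theorem uniq_D {W : Type*} [Group W] [Finite W] {n : ℕ} (hn : 2 ≤ n) (cs : CoxeterSystem (Nodes.TypeD.M n) W)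
    {J : Set (Fin (n + 2))} (hJ : J ≠ Set.univ) (hU : UniqLen cs J) : False := by
  obtain ⟨i, hi⟩ : ∃ i, i ∉ J := by
    by_contra hcon
    push Not at hcon
    exact hJ (Set.eq_univ_of_forall hcon)
  by_cases hin : (i : ℕ) < n
  · -- the path to the branch node
    have key : ∀ k : ℕ, ∀ hk : (i : ℕ) + k < n, ∃ ω : List (Fin (n + 2)), ω.length = k + 1 ∧
        Legal (Nodes.TypeD.A n) (Pi.single i 1) ω ∧
        ∀ m : Fin (n + 2), (i : ℕ) + k < m → cf (Nodes.TypeD.A n) i ω m =
          if Nodes.TypeD.Adj (⟨(i : ℕ) + k, by omega⟩ : Fin (n + 2)) m then 1 else 0 := by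
      intro k
      induction k with
      | zero =>
        intro hk
        refine ⟨[i], rfl, ⟨by simp, trivial⟩, ?_⟩
        intro m hm
        have hmi : m ≠ i := fun e => by rw [e] at hm; omega
        change (Pi.single i 1 : Fin (n + 2) → ℤ) m - A n i m * (Pi.single i 1 : Fin (n + 2) → ℤ) i = _
        rw [Pi.single_eq_same, Pi.single_eq_of_ne hmi, A_apply, if_neg (Ne.symm hmi)]
        have h1 : ¬ Nodes.TypeD.Adj m i := by
          unfold Nodes.TypeD.Adj
          omega
        have h2 : (⟨(i : ℕ) + 0, by omega⟩ : Fin (n + 2)) = i := Fin.ext rfl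
        rw [h2]
        by_cases h3 : Nodes.TypeD.Adj i m
        · rw [if_pos (Or.inl h3), if_pos h3]; norm_num
        · rw [if_neg (by (clear * - n i m h1 h3; tauto)), if_neg h3]; norm_num
      | succ k ih =>
        intro hk
        obtain ⟨ω, h1, h2, h3⟩ := ih (by omega)
        have h4 := h3 ⟨(i : ℕ) + (k + 1), by omega⟩ (by simp)
        have h5 : Nodes.TypeD.Adj (⟨(i : ℕ) + k, by omega⟩ : Fin (n + 2)) ⟨(i : ℕ) + (k + 1), by omega⟩ := by
          unfold Nodes.TypeD.Adj
          simp only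
          omega
        rw [if_pos h5] at h4
        refine ⟨ω ++ [⟨(i : ℕ) + (k + 1), by omega⟩], by simp [h1], legal_append _ _ _ _ h2 ⟨?_, trivial⟩, ?_⟩
        · change 0 < cf (Nodes.TypeD.A n) i ω _
          rw [h4]; norm_num
        · intro m hm
          have e : cf (Nodes.TypeD.A n) i (ω ++ [⟨(i : ℕ) + (k + 1), by omega⟩]) m =
              cf (Nodes.TypeD.A n) i ω m - A n ⟨(i : ℕ) + (k + 1), by omega⟩ m *
                cf (Nodes.TypeD.A n) i ω ⟨(i : ℕ) + (k + 1), by omega⟩ := by
            rw [cf, cf, List.foldl_append]; rfl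
          rw [e, h4, h3 m (by omega), A_apply]
          have h6 : (⟨(i : ℕ) + (k + 1), by omega⟩ : Fin (n + 2)) ≠ m := by
            intro e; rw [← e] at hm; simp at hm
          have h7 : ¬ Nodes.TypeD.Adj m (⟨(i : ℕ) + (k + 1), by omega⟩ : Fin (n + 2)) := by
            unfold Nodes.TypeD.Adj
            simp only
            omega
          have h8 : ¬ Nodes.TypeD.Adj (⟨(i : ℕ) + k, by omega⟩ : Fin (n + 2)) m := by
            unfold Nodes.TypeD.Adj
            simp only
            omega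
          rw [if_neg h6, if_neg h8]
          by_cases h9 : Nodes.TypeD.Adj (⟨(i : ℕ) + (k + 1), by omega⟩ : Fin (n + 2)) m
          · rw [if_pos (Or.inl h9), if_pos h9]; norm_num
          · rw [if_neg (by (clear * - h7 h9; itauto)), if_neg h9]; norm_num
    obtain ⟨ω, h1, h2, h3⟩ := key (n - 1 - i) (by omega)
    have e : (i : ℕ) + (n - 1 - i) = n - 1 := by omega
    have hb : ∀ m : Fin (n + 2), (m : ℕ) = n ∨ (m : ℕ) = n + 1 → cf (Nodes.TypeD.A n) i ω m = 1 := by
      intro m hm
      rw [h3 m (by omega), if_pos]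
      unfold Nodes.TypeD.Adj
      simp only
      omega
    let x : Fin (n + 2) := ⟨n, by omega⟩
    let y : Fin (n + 2) := ⟨n + 1, by omega⟩
    have hx := hb x (Or.inl rfl)
    have hy := hb y (Or.inr rfl)
    have hxy : x ≠ y := by simp [x, y]
    refine absurd_of_legal cs (Nodes.TypeD.isCartan n) hi hU (ω ++ [x]) (ω ++ [y])
      (legal_append _ _ _ _ h2 ⟨?_, trivial⟩) (legal_append _ _ _ _ h2 ⟨?_, trivial⟩) (by simp) ?_
    · change 0 < cf (Nodes.TypeD.A n) i ω x
      rw [hx]; norm_num
    · change 0 < cf (Nodes.TypeD.A n) i ω y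
      rw [hy]; norm_num
    · intro he
      have h4 := congrFun he x
      have e1 : cf (Nodes.TypeD.A n) i (ω ++ [x]) x = cf (Nodes.TypeD.A n) i ω x - A n x x * cf (Nodes.TypeD.A n) i ω x := by
        rw [cf, cf, List.foldl_append]; rfl
      have e2 : cf (Nodes.TypeD.A n) i (ω ++ [y]) x = cf (Nodes.TypeD.A n) i ω x - A n y x * cf (Nodes.TypeD.A n) i ω y := by
        rw [cf, cf, List.foldl_append]; rfl
      rw [e1, e2, hx, hy, A_apply, A_apply, if_pos rfl, if_neg (Ne.symm hxy), if_neg] at h4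
      · norm_num at h4
      · unfold Nodes.TypeD.Adj
        simp only [x, y]
        omega
  · -- an end of the fork
    have hi' : (i : ℕ) = n ∨ (i : ℕ) = n + 1 := by omega
    let b : Fin (n + 2) := ⟨n - 1, by omega⟩
    let z : Fin (n + 2) := ⟨n - 2, by omega⟩
    let t : Fin (n + 2) := if (i : ℕ) = n then ⟨n + 1, by omega⟩ else ⟨n, by omega⟩
    have ht : ((i : ℕ) = n ∧ (t : ℕ) = n + 1) ∨ ((i : ℕ) = n + 1 ∧ (t : ℕ) = n) := by
      by_cases h1 : (i : ℕ) = n
      · exact Or.inl ⟨h1, by simp [t, h1]⟩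
      · exact Or.inr ⟨by omega, by simp [t, h1]⟩
    have hAib : A n i b = -1 := by
      rw [A_apply, if_neg (fun e => by rw [e] at hi'; simp [b] at hi'; omega), if_pos]
      unfold Nodes.TypeD.Adj
      simp only [b]
      omega
    have hAit : A n i t = 0 := by
      rw [A_apply, if_neg (fun e => by rw [e] at ht; omega), if_neg]
      unfold Nodes.TypeD.Adj
      omega
    have hAiz : A n i z = 0 := by
      rw [A_apply, if_neg (fun e => by rw [e] at hi'; simp [z] at hi'; (clear * - hi' e; omega)), if_neg]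
      unfold Nodes.TypeD.Adj
      simp only [z]
      omega
    have hAbt : A n b t = -1 := by
      rw [A_apply, if_neg (fun e => by rw [← e] at ht; simp [b] at ht; omega), if_pos]
      unfold Nodes.TypeD.Adj
      simp only [b]
      (solve | lia | omega)
    have hAbz : A n b z = -1 := by
      rw [A_apply, if_neg (fun e => by simp [b, z] at e; omega), if_pos]
      unfold Nodes.TypeD.Adj
      simp only [b, z]
      omega
    have hAzt : A n z t = 0 := by
      rw [A_apply, if_neg (fun e => by rw [← e] at ht; simp [z] at ht; omega), if_neg]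
      unfold Nodes.TypeD.Adj
      simp only [z]
      omega
    have hbi : b ≠ i := fun e => by rw [← e] at hi'; simp [b] at hi'; omega
    have hti : t ≠ i := fun e => by rw [e] at ht; omega
    have hzi : z ≠ i := fun e => by rw [← e] at hi'; simp [z] at hi'; (clear * - hi' e; omega)
    have hc1 : ∀ m, m ≠ i → fire (A n) (Pi.single i 1) i m = - A n i m := by
      intro m hm
      change (Pi.single i 1 : Fin (n + 2) → ℤ) m - A n i m * (Pi.single i 1 : Fin (n + 2) → ℤ) i = _
      rw [Pi.single_eq_same, Pi.single_eq_of_ne hm]; ring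
    have hb1 : fire (A n) (Pi.single i 1) i b = 1 := by rw [hc1 b hbi, hAib]; norm_num
    have ht1 : fire (A n) (fire (A n) (Pi.single i 1) i) b t = 1 := by
      change fire (A n) (Pi.single i 1) i t - A n b t * fire (A n) (Pi.single i 1) i b = 1
      rw [hb1, hc1 t hti, hAit, hAbt]; norm_num
    have hz1 : fire (A n) (fire (A n) (Pi.single i 1) i) b z = 1 := by
      change fire (A n) (Pi.single i 1) i z - A n b z * fire (A n) (Pi.single i 1) i b = 1
      rw [hb1, hc1 z hzi, hAiz, hAbz]; norm_num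
    refine absurd_of_legal cs (Nodes.TypeD.isCartan n) hi hU [i, b, t] [i, b, z]
      ⟨by simp, by rw [hb1]; norm_num, by rw [ht1]; norm_num, trivial⟩
      ⟨by simp, by rw [hb1]; norm_num, by rw [hz1]; norm_num, trivial⟩ rfl ?_
    intro he
    have h4 := congrFun he t
    change fire (A n) (fire (A n) (fire (A n) (Pi.single i 1) i) b) t t =
      fire (A n) (fire (A n) (fire (A n) (Pi.single i 1) i) b) z t at h4
    have e1 : fire (A n) (fire (A n) (fire (A n) (Pi.single i 1) i) b) t t = 1 - 2 * 1 := by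
      change fire (A n) (fire (A n) (Pi.single i 1) i) b t - A n t t * fire (A n) (fire (A n) (Pi.single i 1) i) b t = _
      rw [ht1, A_apply, if_pos rfl]
    have e2 : fire (A n) (fire (A n) (fire (A n) (Pi.single i 1) i) b) z t = 1 - 0 * 1 := by
      change fire (A n) (fire (A n) (Pi.single i 1) i) b t - A n z t * fire (A n) (fire (A n) (Pi.single i 1) i) b z = _
      rw [ht1, hz1, hAzt]
    rw [e1, e2] at h4
    norm_num at h4

end Cfsg.Agent.H219.HerUniq
end

private theorem dce_9857d0fefa81 : _root_.True := by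
  try have : _root_.True := by simp only [_root_.Cfsg.Agent.H858.HerUniq.gA.eq_1]
  try have : _root_.True := by simp only [_root_.Cfsg.Agent.H858.HerUniq.fB.eq_1]
  try have : _root_.True := by simp only [_root_.Cfsg.Agent.H858.HerUniq.fA.eq_1]
  try have : _root_.True := by simp only [_root_.Cfsg.Agent.H858.HerUniq.pB.eq_1]
  try have : _root_.True := by simp only [_root_.Cfsg.Agent.H219.HerUniq.Legal.eq_def]
  exact _root_.True.intro
end

-- part: H50/HerFam
section
prune_inst 0x20040000000000000000000000000000000000000800000200000000000000000800008000020020000000000008110000000200000000000000000000000000000000000000000000000000000000000000000000000000000000000000000000000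
set_option linter.all false
open scoped Cfsg.Agent.FastGrp

-- part: H549/NullPol
section
/-!
# A null polarity comes from an alternating form (helper549, for the Hering hub)

`exists_alt` : `φ : V → V*` with `φ v ≠ 0` for `v ≠ 0`, `φ v v = 0`, symmetric zeros and injective on points: there is an
alternating form `B` with `B v` proportional to `φ v`, and every perfect group of linear maps preserving the zeros of `φ`
preserves `B`.
-/

set_option autoImplicit false

namespace Cfsg.Agent.H549.NullPol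

open Module

section

variable {F V : Type*} [Field F] [AddCommGroup V] [Module F V]

/-- proportional functionals -/
theorem exists_smul {f g : Dual F V} (hf : f ≠ 0) (h : ∀ x, f x = 0 → g x = 0) : ∃ c : F, g = c • f := by
  obtain ⟨e, he⟩ : ∃ e, f e ≠ 0 := by
    by_contra hcon
    push Not at hcon
    exact hf (LinearMap.ext hcon)
  refine ⟨g e / f e, LinearMap.ext fun x => ?_⟩
  have h1 : g (x - (f x / f e) • e) = 0 := h _ (by
    rw [map_sub, map_smul, smul_eq_mul]
    field_simp
    ring)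
  rw [map_sub, map_smul, smul_eq_mul, sub_eq_zero] at h1
  rw [h1, LinearMap.smul_apply, smul_eq_mul]
  field_simp

/-- a functional vanishing outside the kernel of a nonzero functional vanishes -/
theorem eq_zero_of_outside {f g : Dual F V} (hf : f ≠ 0) (h : ∀ x, f x ≠ 0 → g x = 0) : g = 0 := by
  obtain ⟨e, he⟩ : ∃ e, f e ≠ 0 := by
    by_contra hcon
    push Not at hcon
    exact hf (LinearMap.ext hcon)
  refine LinearMap.ext fun x => ?_
  by_cases hx : f x = 0
  · have h1 : g (x + e) = 0 := h _ (by rw [map_add, hx, zero_add]; exact he)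
    rw [map_add, h e he, add_zero] at h1
    exact h1
  · exact h x hx

variable {φ : V → Dual F V}

theorem cocycle (hnull : ∀ v, φ v v = 0) (hsymm : ∀ u v, φ u v = 0 ↔ φ v u = 0) {u v w : V}
    (huv : φ u v ≠ 0) :
    φ u v * φ v w * φ w u = - (φ v u * φ w v * φ u w) := by
  have hvu : φ v u ≠ 0 := fun h => huv ((hsymm u v).2 h)
  let a : F := - φ v w / φ v u
  let b : F := - φ u w / φ u v
  have hu : φ u (a • u + b • v + w) = 0 := by
    rw [map_add, map_add, map_smul, map_smul, hnull, smul_eq_mul, smul_eq_mul]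
    show a * 0 + (- φ u w / φ u v) * φ u v + φ u w = 0
    field_simp
    ring
  have hv : φ v (a • u + b • v + w) = 0 := by
    rw [map_add, map_add, map_smul, map_smul, hnull v, smul_eq_mul, smul_eq_mul]
    show (- φ v w / φ v u) * φ v u + b * 0 + φ v w = 0
    field_simp
    ring
  have hu' := (hsymm _ _).1 hu
  have hv' := (hsymm _ _).1 hv
  have hx := hnull (a • u + b • v + w)
  rw [map_add, map_add, map_smul, map_smul, hu', hv', smul_zero, smul_zero, zero_add, zero_add] at hx
  have hw := (hsymm _ _).1 hx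
  rw [map_add, map_add, map_smul, map_smul, hnull w, smul_eq_mul, smul_eq_mul, add_zero] at hw
  have hw' : (- φ v w / φ v u) * φ w u + (- φ u w / φ u v) * φ w v = 0 := hw
  field_simp at hw'
  linear_combination (-1 : F) * hw'

end

section

variable {F V : Type*} [Field F] [AddCommGroup V] [Module F V]
  (φ : V → Dual F V) (e : V)

/-- the normalized functionals -/
def th (v : V) : Dual F V := (- (φ e v / φ v e)) • φ v

variable {φ e}

theorem th_anti (hnull : ∀ v, φ v v = 0) (hsymm : ∀ u v, φ u v = 0 ↔ φ v u = 0) {x y : V} (hx : φ e x ≠ 0)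
    (hy : φ e y ≠ 0) : th φ e x y = - th φ e y x := by
  unfold th
  rw [LinearMap.smul_apply, LinearMap.smul_apply, smul_eq_mul, smul_eq_mul]
  have hx' : φ x e ≠ 0 := fun h => hx ((hsymm _ _).1 h)
  have hy' : φ y e ≠ 0 := fun h => hy ((hsymm _ _).1 h)
  have h := cocycle hnull hsymm (w := y) hx
  field_simp
  linear_combination (-1 : F) * h

theorem th_self (hnull : ∀ v, φ v v = 0) (x : V) : th φ e x x = 0 := by
  unfold th
  rw [LinearMap.smul_apply, hnull, smul_zero]

/-- **Null polarities.** -/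
theorem exists_form (h0 : ∀ v, v ≠ 0 → φ v ≠ 0) (hnull : ∀ v, φ v v = 0) (hsymm : ∀ u v, φ u v = 0 ↔ φ v u = 0)
    (hinj : ∀ u v : V, u ≠ 0 → v ≠ 0 → (∀ x, φ u x = 0 ↔ φ v x = 0) → ∃ c : F, v = c • u) (he : e ≠ 0) :
    ∃ B : LinearMap.BilinForm F V, B.IsAlt ∧ (∀ v, v ≠ 0 → ∃ c : F, c ≠ 0 ∧ B v = c • φ v) := by
  classical
  have hf := h0 e he
  obtain ⟨e', he'⟩ : ∃ e', φ e e' ≠ 0 := by
    by_contra hcon
    push Not at hcon
    exact hf (LinearMap.ext hcon)
  let Θ : V → Dual F V := fun v => if φ e v = 0 then th φ e (v + e') - th φ e e' else th φ e v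
  have hadd : ∀ {v : V}, φ e v = 0 → φ e (v + e') ≠ 0 := fun {v} h => by rwa [map_add, h, zero_add]
  have key : ∀ v y, φ e y ≠ 0 → Θ v y = - th φ e y v := by
    intro v y hy
    by_cases hv : φ e v = 0
    · simp only [Θ, if_pos hv]
      rw [LinearMap.sub_apply, th_anti hnull hsymm (hadd hv) hy, th_anti hnull hsymm he' hy, map_add]
      ring
    · simp only [Θ, if_neg hv]
      exact th_anti hnull hsymm hv hy
  have hlin_add : ∀ v w, Θ (v + w) = Θ v + Θ w := by
    intro v w
    rw [← sub_eq_zero]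
    refine eq_zero_of_outside hf fun y hy => ?_
    rw [LinearMap.sub_apply, LinearMap.add_apply, key _ _ hy, key _ _ hy, key _ _ hy, map_add]
    ring
  have hlin_smul : ∀ (c : F) v, Θ (c • v) = c • Θ v := by
    intro c v
    rw [← sub_eq_zero]
    refine eq_zero_of_outside hf fun y hy => ?_
    rw [LinearMap.sub_apply, LinearMap.smul_apply, key _ _ hy, key _ _ hy, map_smul, smul_eq_mul, smul_eq_mul]
    ring
  let B : LinearMap.BilinForm F V :=
    { toFun := Θ, map_add' := hlin_add, map_smul' := fun c v => hlin_smul c v }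
  have hB : ∀ v, B v = Θ v := fun v => rfl
  have hBout : ∀ {v}, φ e v ≠ 0 → B v = th φ e v := fun {v} h => by rw [hB]; simp only [Θ, if_neg h]
  have halt : B.IsAlt := by
    intro v
    by_cases hv : φ e v = 0
    · have h1 : B v v = th φ e (v + e') v - th φ e e' v := by
        rw [hB]
        simp only [Θ, if_pos hv]
        rw [LinearMap.sub_apply]
      have h2 : th φ e (v + e') v = - th φ e (v + e') e' := by
        have := th_self (e := e) hnull (v + e')
        rw [map_add] at this
        exact eq_neg_of_add_eq_zero_left this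
      have h3 : th φ e e' v = - th φ e (v + e') e' := by
        have h4 := th_anti hnull hsymm he' (hadd hv)
        rw [map_add, th_self hnull e', add_zero] at h4
        exact h4
      rw [h1, h2, h3, sub_self]
    · rw [hBout hv, th_self hnull]
  refine ⟨B, halt, fun v hv => ?_⟩
  have hne : B v ≠ 0 := by
    intro h
    have h1 : ∀ y, φ e y ≠ 0 → φ v y = 0 := by
      intro y hy
      have h2 := key v y hy
      rw [← hB, h, LinearMap.zero_apply] at h2
      unfold th at h2
      rw [LinearMap.smul_apply, smul_eq_mul, neg_mul, neg_neg] at h2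
      have hy' : φ y e ≠ 0 := fun h => hy ((hsymm _ _).1 h)
      have h3 : φ y v = 0 := (mul_eq_zero.1 h2.symm).resolve_left (div_ne_zero hy hy')
      exact (hsymm _ _).1 h3
    exact h0 v hv (eq_zero_of_outside hf h1)
  have hker : ∀ y, φ v y = 0 → B v y = 0 := by
    have hout : ∀ y, φ e y ≠ 0 → φ v y = 0 → B v y = 0 := by
      intro y hy hvy
      rw [hB, key v y hy]
      unfold th
      rw [LinearMap.smul_apply, (hsymm _ _).1 hvy, smul_zero, neg_zero]
    by_cases hz : ∃ z, φ e z ≠ 0 ∧ φ v z = 0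
    · obtain ⟨z, hz1, hz2⟩ := hz
      intro y hy
      by_cases hy' : φ e y = 0
      · have h1 := hout (y + z) (by rw [map_add, hy', zero_add]; exact hz1) (by rw [map_add, hy, hz2, add_zero])
        rw [map_add, hout z hz1 hz2, add_zero] at h1
        exact h1
      · exact hout y hy' hy
    · push Not at hz
      -- the kernels agree
      have h1 : ∀ y, φ v y = 0 → φ e y = 0 := fun y hy => by
        by_contra h
        exact hz y h hy
      obtain ⟨c, hc⟩ := exists_smul (h0 v hv) h1
      have hc0 : c ≠ 0 := by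
        rintro rfl
        rw [zero_smul] at hc
        exact hf hc
      have h2 : ∀ y, φ e y = 0 ↔ φ v y = 0 := fun y => by
        rw [hc, LinearMap.smul_apply, smul_eq_mul, mul_eq_zero]
        exact ⟨fun h => h.resolve_left hc0, Or.inr⟩
      obtain ⟨d, rfl⟩ := hinj e v he hv h2
      have hBe : B e = φ e := by
        rw [← sub_eq_zero]
        refine eq_zero_of_outside hf fun y hy => ?_
        have hy' : φ y e ≠ 0 := fun h => hy ((hsymm _ _).1 h)
        rw [LinearMap.sub_apply, hB, key e y hy]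
        unfold th
        rw [LinearMap.smul_apply, smul_eq_mul]
        field_simp
        ring
      intro y hy
      rw [map_smul, LinearMap.smul_apply, hBe, (h2 y).2 hy, smul_zero]
  obtain ⟨c, hc⟩ := exists_smul (h0 v hv) hker
  refine ⟨c, ?_, hc⟩
  rintro rfl
  rw [zero_smul] at hc
  exact hne hc

end

/-- **Null polarities and groups.** -/
theorem exists_alt {F V : Type*} [Field F] [AddCommGroup V] [Module F V] [FiniteDimensional F V]
    (φ : V → Module.Dual F V) (h0 : ∀ v, v ≠ 0 → φ v ≠ 0) (hnull : ∀ v, φ v v = 0)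
    (hsymm : ∀ u v, φ u v = 0 ↔ φ v u = 0)
    (hinj : ∀ u v : V, u ≠ 0 → v ≠ 0 → (∀ x, φ u x = 0 ↔ φ v x = 0) → ∃ c : F, v = c • u)
    (L : Subgroup (V ≃ₗ[F] V)) (hL : ⁅L, L⁆ = L) (hLφ : ∀ g ∈ L, ∀ u v, φ (g u) (g v) = 0 ↔ φ u v = 0) :
    ∃ B : LinearMap.BilinForm F V, B.IsAlt ∧ (∀ v, v ≠ 0 → ∃ c : F, c ≠ 0 ∧ B v = c • φ v) ∧
      ∀ g ∈ L, ∀ u v, B (g u) (g v) = B u v := by
  by_cases hV : ∃ e : V, e ≠ 0
  swap
  · push Not at hV
    refine ⟨0, fun v => rfl, fun v hv => absurd (hV v) hv, fun g _ u v => rfl⟩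
  obtain ⟨e, he⟩ := hV
  obtain ⟨B, halt, hB⟩ := exists_form h0 hnull hsymm hinj he
  have hzero : ∀ u v, B u v = 0 ↔ φ u v = 0 := by
    intro u v
    by_cases hu : u = 0
    · subst hu
      rw [map_zero, LinearMap.zero_apply, hsymm, map_zero]
    · obtain ⟨c, hc, h⟩ := hB u hu
      rw [h, LinearMap.smul_apply, smul_eq_mul, mul_eq_zero]
      exact ⟨fun h => h.resolve_left hc, Or.inr⟩
  have hne : ∀ u, u ≠ 0 → B u ≠ 0 := by
    intro u hu h
    obtain ⟨c, hc, h'⟩ := hB u hu
    rw [h'] at h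
    exact (smul_ne_zero hc (h0 u hu)) h
  have hinjB : Function.Injective B := by
    rw [← LinearMap.ker_eq_bot, LinearMap.ker_eq_bot']
    intro u hu
    by_contra h
    exact hne u h hu
  -- the multipliers
  have hmul : ∀ g ∈ L, ∃ c : F, c ≠ 0 ∧ ∀ u v, B (g u) (g v) = c * B u v := by
    intro g hg
    let E : V ≃ₗ[F] Dual F V := LinearMap.linearEquivOfInjective B hinjB (Subspace.dual_finrank_eq (K := F) (V := V)).symm
    have hE : ∀ u, E u = B u := fun u => rfl
    let Bg : V →ₗ[F] Dual F V := (Dual.transpose (R := F) g.toLinearMap) ∘ₗ (B ∘ₗ g.toLinearMap)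
    have hBg : ∀ u v, Bg u v = B (g u) (g v) := fun u v => rfl
    let f : V →ₗ[F] V := E.symm.toLinearMap ∘ₗ Bg
    have hf : ∀ u, B (f u) = Bg u := fun u => by
      rw [← hE]
      exact E.apply_symm_apply (Bg u)
    have hcol : ∀ v, ∃ c : F, f v = c • v := by
      intro v
      by_cases hv : v = 0
      · exact ⟨0, by rw [hv, map_zero, smul_zero]⟩
      · obtain ⟨c, hc⟩ := exists_smul (hne v hv) (g := Bg v) (fun x hx => by
          rw [hBg, hzero, hLφ g hg, ← hzero]
          exact hx)
        refine ⟨c, hinjB ?_⟩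
        rw [hf, hc, map_smul]
    obtain ⟨c, hc⟩ := LinearMap.exists_eq_smul_id_of_forall_notLinearIndependent (f := f) (fun v h => by
      obtain ⟨c, hc⟩ := hcol v
      rw [LinearIndependent.pair_iff] at h
      have := h c (-1) (by rw [hc]; simp)
      exact one_ne_zero (neg_eq_zero.1 this.2))
    have hcB : ∀ u v, B (g u) (g v) = c * B u v := by
      intro u v
      rw [← hBg, ← hf, hc]
      simp only [_root_.LinearMap.smul_apply, _root_.Module.End.one_apply, _root_.map_smul, _root_.smul_eq_mul]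
    refine ⟨c, ?_, hcB⟩
    rintro rfl
    have h1 : ∀ u v, B u v = 0 := fun u v => by
      have := hcB (g.symm u) (g.symm v)
      rw [LinearEquiv.apply_symm_apply, LinearEquiv.apply_symm_apply, zero_mul] at this
      exact this
    exact hne e he (LinearMap.ext (h1 e))
  refine ⟨B, halt, hB, ?_⟩
  let K : Subgroup (V ≃ₗ[F] V) :=
    { carrier := {g | ∀ u v, B (g u) (g v) = B u v}
      one_mem' := fun u v => rfl
      mul_mem' := fun {a b} ha hb u v => by
        show B (a (b u)) (a (b v)) = B u v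
        rw [ha, hb]
      inv_mem' := fun {a} ha u v => by
        have h := ha (a⁻¹ u) (a⁻¹ v)
        have h1 : ∀ x, a (a⁻¹ x) = x := fun x => a.apply_symm_apply x
        rw [h1, h1] at h
        exact h.symm }
  have hK : ⁅L, L⁆ ≤ K := by
    rw [Subgroup.commutator_le]
    intro a ha b hb u v
    obtain ⟨c, hc, hca⟩ := hmul a ha
    obtain ⟨d, hd, hdb⟩ := hmul b hb
    have ha' : ∀ u v, B (a⁻¹ u) (a⁻¹ v) = c⁻¹ * B u v := fun u v => by
      have h := hca (a⁻¹ u) (a⁻¹ v)
      have h1 : ∀ x, a (a⁻¹ x) = x := fun x => a.apply_symm_apply x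
      rw [h1, h1] at h
      rw [h, inv_mul_cancel_left₀ hc]
    have hb' : ∀ u v, B (b⁻¹ u) (b⁻¹ v) = d⁻¹ * B u v := fun u v => by
      have h := hdb (b⁻¹ u) (b⁻¹ v)
      have h1 : ∀ x, b (b⁻¹ x) = x := fun x => b.apply_symm_apply x
      rw [h1, h1] at h
      rw [h, inv_mul_cancel_left₀ hd]
    show B (a (b (a⁻¹ (b⁻¹ u)))) (a (b (a⁻¹ (b⁻¹ v)))) = B u v
    rw [hca, hdb, ha', hb']
    field_simp
  intro g hg
  rw [← hL] at hg
  exact hK hg

end Cfsg.Agent.H549.NullPol
end

-- part: H60/HerForm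
section
/-!
# The polarity in the defining characteristic case (helper60, HERING hub of helper50, for S3695)

`exists_form` : if `w₀` is central, the hyperplanes `Fl x (a - 1)` define a null polarity, so `G` preserves a
nondegenerate alternating form.
-/

set_option autoImplicit false
set_option linter.unusedSectionVars false

namespace Cfsg.Agent.H60.HerForm

open Cfsg.Agent.H50.Her Module
open Cfsg.Agent.Tits.Core Cfsg.Agent.Tits.Core.Bldg Cfsg.Agent.Tits.Exchange Cfsg.Agent.Tits
open Cfsg.Agent.FixBN Cfsg.Agent.FixBN.Cox Cfsg.Agent.Omega.CR Cfsg.Agent.Omega.CR.Bl Cfsg.Agent.H905.DC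

variable {I : Type*} {M : CoxeterMatrix I} {W : Type*} [Group W] {cs : CoxeterSystem M W} [F : OppRes.Cox cs]
  {C : Type*} {Δ : Bldg cs C} {G : Type*} [Group G] [MulAction G C] {p : ℕ} {S : Sys Δ G p}
  {V : Type*} [AddCommGroup V] [Module (ZMod p) V] {ρ : G →* Module.End (ZMod p) V}

local prefix:100 "ℓ" => cs.length

theorem len_le (w : W) : ℓ w ≤ ℓ (w0 cs) := by
  have := F.len_mul_w0 w
  omega

/-- `w₀` is central -/
theorem w0_comm (hw0 : ∀ i, w0 cs * cs.simple i = cs.simple i * w0 cs) (w : W) : w0 cs * w = w * w0 cs := by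
  obtain ⟨ω, -, rfl⟩ := cs.exists_isReduced w
  induction ω with
  | nil => simp
  | cons i ω ih => rw [cs.wordProd_cons, ← mul_assoc, hw0, mul_assoc, ih, mul_assoc]

/-- the antipodal coset is stable under inversion -/
theorem inv_iff (hw0 : ∀ i, w0 cs * cs.simple i = cs.simple i * w0 cs) {H : Subgroup W} (w : W) :
    (w0 cs)⁻¹ * w⁻¹ ∈ H ↔ (w0 cs)⁻¹ * w ∈ H := by
  rw [← H.inv_mem_iff, mul_inv_rev, inv_inv, inv_inv, ← w0_comm hw0, F.w0_inv]

section

variable [Fintype C] [Fact p.Prime] (hth : Δ.Thick) [Finite G] [Finite V] [Nontrivial V]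
  (hirr : ∀ L : Submodule (ZMod p) V, Ivt ρ ⊤ L → L = ⊥ ∨ L = ⊤) (hcov : ∀ v : V, ∃ x, v ∈ Vx S ρ x)
  {a : ℕ} {lab : W → ℕ} {P : ℕ} (hL : Lab S ρ a lab P)
  (hpan : ∀ (x : C) (k : I), Nat.card {y : C // Δ.δ x y = cs.simple k} = P) (ha : 2 ≤ a)

include hL hpan ha

/-- the element with the last label -/
theorem lab_eq_iff (x : C) {w : W} (hw : IsMinR cs (Jset S ρ) w) :
    lab w = a - 1 ↔ (w0 cs)⁻¹ * w ∈ WJ cs (Jset S ρ) := by
  obtain ⟨m, hm, hlm⟩ := hL.ex (a - 1) (by omega)
  obtain ⟨v, hv, j, hj, he⟩ := exists_isMinR cs (Jset S ρ) (w0 cs)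
  have hle : ∀ w, IsMinR cs (Jset S ρ) w → ℓ w ≤ ℓ v := by
    intro w hw
    have h1 := hw j hj
    have h2 := hv j hj
    have h3 := len_le (F := F) (w * j)
    rw [← he] at h2
    omega
  have h1 : lab v = a - 1 := by
    have h2 := hL.lt v hv
    have h3 := hle m hm
    rw [← lab_eq hL hpan x hm, ← lab_eq hL hpan x hv] at h3
    omega
  constructor
  · intro h
    have h2 := hL.uniq w v hw hv (h.trans h1.symm)
    rw [h2, he, mul_inv_rev, inv_mul_cancel_right]
    exact inv_mem hj
  · intro h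
    have h2 : w = v * (j * ((w0 cs)⁻¹ * w)) := by
      rw [← mul_assoc, ← he, mul_inv_cancel_left]
    rw [IsMinR.unique cs hv hw (mul_mem hj h) h2]
    exact h1

include hth hirr hcov

theorem mem_Fl_iff (x y : C) {v : V} (hv : v ∈ Vx S ρ y) (hv0 : v ≠ 0) :
    v ∈ Fl S ρ x (a - 1) ↔ (w0 cs)⁻¹ * Δ.δ x y ∉ WJ cs (Jset S ρ) := by
  have hfinV : FiniteDimensional (ZMod p) V := Module.Finite.of_finite
  obtain ⟨z, hz, hzy⟩ := exists_gate (S := S) hth hirr x y
  have hvz : v ∈ Vx S ρ z := by rw [hzy]; exact hv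
  have horb := card_orb (S := S) hth hirr hz hvz hv0
  rw [hL.sph _ hz] at horb
  rw [(flag (S := S) hth hirr hcov hL x (j := a - 1) (by omega)).2.1 v hv0, horb, Nat.pow_lt_pow_iff_right hL.two_le]
  have h1 := (Vx_eq_iff_mem (S := S) hth hirr z y).1 hzy
  have h2 := Δ.δ_mul (hz _ h1)
  rw [h2, ← mul_assoc, Subgroup.mul_mem_cancel_right _ h1, ← lab_eq_iff hL hpan ha x hz]
  have := hL.lt _ hz
  omega

theorem mem_Fl_symm (hw0 : ∀ i, w0 cs * cs.simple i = cs.simple i * w0 cs) (x y : C) {u v : V} (hu : u ∈ Vx S ρ x)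
    (hu0 : u ≠ 0) (hv : v ∈ Vx S ρ y) (hv0 : v ≠ 0) : v ∈ Fl S ρ x (a - 1) ↔ u ∈ Fl S ρ y (a - 1) := by
  rw [mem_Fl_iff (S := S) hth hirr hcov hL hpan ha x y hv hv0, mem_Fl_iff (S := S) hth hirr hcov hL hpan ha y x hu hu0,
    Δ.symm x y, inv_iff hw0]

/-- the hyperplane depends only on the block -/
theorem mem_Fl_congr (hw0 : ∀ i, w0 cs * cs.simple i = cs.simple i * w0 cs) {x x' : C} {u : V} (hu : u ∈ Vx S ρ x)
    (hu' : u ∈ Vx S ρ x') (hu0 : u ≠ 0) (v : V) : v ∈ Fl S ρ x (a - 1) ↔ v ∈ Fl S ρ x' (a - 1) := by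
  by_cases hv0 : v = 0
  · rw [hv0]
    exact ⟨fun _ => zero_mem _, fun _ => zero_mem _⟩
  obtain ⟨y, hy⟩ := hcov v
  rw [mem_Fl_symm (S := S) hth hirr hcov hL hpan ha hw0 x y hu hu0 hy hv0,
    mem_Fl_symm (S := S) hth hirr hcov hL hpan ha hw0 x' y hu' hu0 hy hv0]

/-- **the hyperplane determines the block** -/
theorem Vx_eq_of_Fl (hw0 : ∀ i, w0 cs * cs.simple i = cs.simple i * w0 cs) {x y : C}
    (h : ∀ v, v ∈ Fl S ρ x (a - 1) ↔ v ∈ Fl S ρ y (a - 1)) : Vx S ρ x = Vx S ρ y := by
  obtain ⟨z, hz, hzy⟩ := exists_gate (S := S) hth hirr x y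
  obtain ⟨u, hu, hu0⟩ := Submodule.exists_mem_ne_zero_of_ne_bot (Vx_ne_bot' (S := S) (ρ := ρ) z)
  have h' : ∀ v, v ∈ Fl S ρ x (a - 1) ↔ v ∈ Fl S ρ z (a - 1) := by
    intro v
    rw [h v, mem_Fl_congr (S := S) hth hirr hcov hL hpan ha hw0 (x := y) (x' := z) (by rw [← hzy]; exact hu) hu hu0]
  rw [← hzy]
  obtain ⟨c, hc, h1, h2⟩ := exists_apt_pair (S := S) x z
  set w := Δ.δ x z with hw
  have hxd : Δ.δ x (c (w0 cs)) = w0 cs := by
    rw [← h1, hc, inv_one, one_mul]
  have hzd : Δ.δ z (c (w0 cs)) = w⁻¹ * w0 cs := by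
    conv_lhs => rw [← h2]
    rw [hc]
  obtain ⟨v, hv, hv0⟩ := Submodule.exists_mem_ne_zero_of_ne_bot (Vx_ne_bot' (S := S) (ρ := ρ) (c (w0 cs)))
  have h3 : v ∉ Fl S ρ x (a - 1) := by
    rw [mem_Fl_iff (S := S) hth hirr hcov hL hpan ha x _ hv hv0, hxd, inv_mul_cancel]
    exact fun h => h (one_mem _)
  rw [h', mem_Fl_iff (S := S) hth hirr hcov hL hpan ha z _ hv hv0, hzd, ← w0_comm hw0, inv_mul_cancel_left,
    not_not] at h3
  have h4 := hz _ h3
  rw [mul_inv_cancel, cs.length_one] at h4
  have h5 : w = 1 := cs.length_eq_zero_iff.1 (by omega)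
  rw [Δ.eq_of_δ_eq_one (h5 : Δ.δ x z = 1)]

end

section

variable [Fact p.Prime] {K : Type*} [Field K] [Module K V]
  (hK : ∀ (c : K) (g : G) (v : V), ρ g (c • v) = c • ρ g v)

include hK

omit F in
theorem smul_mem_Fl (c : K) {x : C} {j : ℕ} {v : V} (hv : v ∈ Fl S ρ x j) : c • v ∈ Fl S ρ x j := by
  induction j generalizing v with
  | zero =>
    rw [Fl_zero, Submodule.mem_bot] at hv ⊢
    rw [hv, smul_zero]
  | succ j ih =>
    rw [mem_Fl_succ] at hv ⊢
    intro u hu
    rw [hK, ← smul_sub]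
    exact ih (hv u hu)

omit F in
variable (S) in
/-- the flag as a `K`-subspace -/
def FK (x : C) (j : ℕ) : Submodule K V where
  carrier := Fl S ρ x j
  add_mem' := fun h h' => add_mem h h'
  zero_mem' := zero_mem _
  smul_mem' := fun c _ h => smul_mem_Fl (S := S) hK c h

/-- the group as a group of `K`-linear maps -/
def rhoK : G →* (V ≃ₗ[K] V) where
  toFun g :=
    { toFun := ρ g
      map_add' := map_add _
      map_smul' := fun c v => hK c g v
      invFun := ρ g⁻¹
      left_inv := fun v => by rw [← rho_mul, inv_mul_cancel, rho_one]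
      right_inv := fun v => by rw [← rho_mul, mul_inv_cancel, rho_one] }
  map_one' := LinearEquiv.ext fun v => by
    change ρ 1 v = v
    rw [rho_one]
  map_mul' := fun g h => LinearEquiv.ext fun v => by
    change ρ (g * h) v = ρ g (ρ h v)
    rw [rho_mul]

end

/-- **The polarity.** -/
theorem exists_form [Fintype C] [Fact p.Prime] (hth : Δ.Thick) [Finite G] [Finite V] [Nontrivial V]
    (hirr : ∀ L : Submodule (ZMod p) V, Ivt ρ ⊤ L → L = ⊥ ∨ L = ⊤) (hcov : ∀ v : V, ∃ x, v ∈ Vx S ρ x)
    {a : ℕ} {lab : W → ℕ} {P : ℕ} (hL : Lab S ρ a lab P)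
    (hpan : ∀ (x : C) (k : I), Nat.card {y : C // Δ.δ x y = cs.simple k} = P) (ha : 2 ≤ a)
    (hw0 : ∀ i, w0 cs * cs.simple i = cs.simple i * w0 cs) (hperf : commutator G = ⊤)
    {K : Type*} [Field K] [Finite K] [Module K V] (hK : ∀ (c : K) (g : G) (v : V), ρ g (c • v) = c • ρ g v)
    (hcard : Nat.card K = P) :
    ∃ f : LinearMap.BilinForm K V, f.IsAlt ∧ f.Nondegenerate ∧ ∀ (g : G) (u v : V), f (ρ g u) (ρ g v) = f u v := by
  classical
  have hfinV : FiniteDimensional (ZMod p) V := Module.Finite.of_finite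
  have hfinK : FiniteDimensional K V := Module.Finite.of_finite
  -- dimensions
  have hV : finrank K V = a := by
    have h1 := Module.natCard_eq_pow_finrank (K := K) (V := V)
    rw [hcard, hL.card_V] at h1
    exact (Nat.pow_right_injective hL.two_le h1).symm
  have hF : ∀ x, finrank K (FK S hK x (a - 1)) = a - 1 := by
    intro x
    have h1 := Module.natCard_eq_pow_finrank (K := K) (V := FK S hK x (a - 1))
    have h2 : Nat.card (FK S hK x (a - 1)) = Nat.card (Fl S ρ x (a - 1)) := rfl
    rw [hcard, h2, (flag (S := S) hth hirr hcov hL x (j := a - 1) (by omega)).1] at h1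
    exact (Nat.pow_right_injective hL.two_le h1).symm
  have hfun : ∀ x, ∃ f : Dual K V, LinearMap.ker f = FK S hK x (a - 1) := by
    intro x
    have h1 := Submodule.finrank_quotient_add_finrank (FK S hK x (a - 1))
    rw [hF, hV] at h1
    have e : (V ⧸ FK S hK x (a - 1)) ≃ₗ[K] K := LinearEquiv.ofFinrankEq _ _ (by rw [finrank_self]; omega)
    refine ⟨e.toLinearMap ∘ₗ (FK S hK x (a - 1)).mkQ, ?_⟩
    rw [LinearMap.ker_comp, LinearEquiv.ker, Submodule.comap_bot, Submodule.ker_mkQ]
  choose X hX using hcov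
  choose f hf using hfun
  have hcov' : ∀ v : V, ∃ x, v ∈ Vx S ρ x := fun v => ⟨X v, hX v⟩
  let φ : V → Dual K V := fun v => if v = 0 then 0 else f (X v)
  have hφ0 : φ 0 = 0 := if_pos rfl
  have hφ : ∀ u : V, u ≠ 0 → ∀ x, u ∈ Vx S ρ x → ∀ v, φ u v = 0 ↔ v ∈ Fl S ρ x (a - 1) := by
    intro u hu x hx v
    have h1 : φ u = f (X u) := if_neg hu
    rw [h1, ← LinearMap.mem_ker, hf]
    exact mem_Fl_congr (S := S) hth hirr hcov' hL hpan ha hw0 (hX u) hx hu v
  have h0 : ∀ v, v ≠ 0 → φ v ≠ 0 := by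
    intro v hv h
    have h1 : ∀ u, u ∈ FK S hK (X v) (a - 1) := fun u => (hφ v hv (X v) (hX v) u).1 (by rw [h]; rfl)
    have h2 : FK S hK (X v) (a - 1) = ⊤ := by
      rw [eq_top_iff]
      exact fun u _ => h1 u
    have h3 := hF (X v)
    rw [h2, finrank_top, hV] at h3
    omega
  have hsymm : ∀ u v, φ u v = 0 ↔ φ v u = 0 := by
    intro u v
    by_cases hu : u = 0
    · rw [hu, hφ0, map_zero]; simp
    by_cases hv : v = 0
    · rw [hv, hφ0, map_zero]; simp
    rw [hφ u hu _ (hX u), hφ v hv _ (hX v)]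
    exact mem_Fl_symm (S := S) hth hirr hcov' hL hpan ha hw0 _ _ (hX u) hu (hX v) hv
  obtain ⟨B, halt, hB, hinv⟩ := Cfsg.Agent.H549.NullPol.exists_alt φ h0 (by
      intro v
      by_cases hv : v = 0
      · rw [hv, map_zero]
      rw [hφ v hv _ (hX v)]
      have h1 := hX v
      rw [← Fl_one] at h1
      exact Fl_mono (S := S) (X v) (by omega) h1)
    hsymm
    (by
      intro u v hu hv h
      have h1 := Vx_eq_of_Fl (S := S) hth hirr hcov' hL hpan ha hw0 (x := X u) (y := X v) (fun w => by
        rw [← hφ u hu _ (hX u), ← hφ v hv _ (hX v)]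
        exact h w)
      have h2 : v ∈ FK S hK (X u) 1 := by
        have h3 := hX v
        rw [← h1, ← Fl_one] at h3
        exact h3
      have h3 : u ∈ FK S hK (X u) 1 := by
        have h3 := hX u
        rw [← Fl_one] at h3
        exact h3
      have h4 : finrank K (FK S hK (X u) 1) = 1 := by
        have h5 := Module.natCard_eq_pow_finrank (K := K) (V := FK S hK (X u) 1)
        have h6 : Nat.card (FK S hK (X u) 1) = Nat.card (Fl S ρ (X u) 1) := rfl
        rw [hcard, h6, (flag (S := S) hth hirr hcov' hL (X u) (j := 1) (by omega)).1] at h5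
        exact (Nat.pow_right_injective hL.two_le h5).symm
      obtain ⟨c, hc⟩ := (finrank_eq_one_iff_of_nonzero' (⟨u, h3⟩ : FK S hK (X u) 1) (fun h =>
        hu (congrArg Subtype.val h))).1 h4 ⟨v, h2⟩
      exact ⟨c, (congrArg Subtype.val hc).symm⟩)
    (rhoK hK).range
    (by
      rw [MonoidHom.range_eq_map, ← Subgroup.map_commutator]
      congr 1)
    (by
      rintro _ ⟨g, rfl⟩ u v
      change φ (ρ g u) (ρ g v) = 0 ↔ φ u v = 0
      by_cases hu : u = 0
      · rw [hu, map_zero, hφ0]; simp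
      have hu' : ρ g u ≠ 0 := by
        intro h
        apply hu
        have h1 := congrArg (ρ g⁻¹) h
        rwa [rho_inv_rho, map_zero] at h1
      rw [hφ _ hu' (g • X u) (rho_mem_Vx S ρ g (hX u)), hφ u hu _ (hX u)]
      constructor
      · intro h
        have h1 := rho_mem_Fl (S := S) g⁻¹ h
        rwa [rho_inv_rho, inv_smul_smul] at h1
      · intro h
        exact rho_mem_Fl (S := S) g h)
  have hleft : ∀ v, (∀ w, B v w = 0) → v = 0 := by
    intro v h
    by_contra hv
    obtain ⟨c, hc, e⟩ := hB v hv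
    apply h0 v hv
    have h1 : c • φ v = 0 := by
      rw [← e]
      exact LinearMap.ext h
    exact (smul_eq_zero.1 h1).resolve_left hc
  refine ⟨B, halt, ⟨hleft, fun v h => hleft v fun w => ?_⟩, fun g u v => hinv (rhoK hK g) ⟨g, rfl⟩ u v⟩
  rw [← LinearMap.IsAlt.neg halt w v, h w, neg_zero]

end Cfsg.Agent.H60.HerForm
end

-- part: H50/HerCoreB
section
/-!
# Hering's theorem, defining characteristic: the core with the form (helper50)
-/

set_option autoImplicit false
set_option linter.unusedSectionVars false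
set_option linter.style.haveILetI false

namespace Cfsg.Agent.H50.Her
open Module
open Cfsg.Agent.ChevalleyStructure.CoxeterGeom Cfsg.Agent.Nodes.Reps
open Cfsg.Agent.Tits.Core Cfsg.Agent.Tits.Core.Bldg Cfsg.Agent.Tits.Exchange Cfsg.Agent.Tits
open Cfsg.Agent.FixBN Cfsg.Agent.FixBN.Cox Cfsg.Agent.Omega.CR Cfsg.Agent.Omega.CR.Bl Cfsg.Agent.H905.DC

universe u

variable {p : ℕ} [hp : Fact p.Prime] {V : Type u} [AddCommGroup V] [Module (ZMod p) V] [Finite V] [Nontrivial V]
variable {L : Subgroup (V ≃ₗ[ZMod p] V)}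

/-- **Defining characteristic: the core.** -/
theorem DC.core (h : DC L) {I : Type*} [Fintype I] [DecidableEq I] [Nonempty I] {M : CoxeterMatrix I}
    {A : I → I → ℤ} (hA : IsCartan M A) (hc : KFacts.RgdCharP.Conn M) {q : I → ℕ} (hB : HasBld p M q L) :
    ∃ (P a : ℕ) (W : Type u) (_ : Group W) (_ : Finite W) (cs : CoxeterSystem M W) (J : Set I)
      (F : Type) (_ : Field F) (_ : Fintype F) (_ : Module F V),
      (∀ i, q i = P) ∧ J ≠ Set.univ ∧ UniqLen cs J ∧ (WJ cs J).index = a ∧ 2 ≤ a ∧ Fintype.card F = P ∧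
      finrank F V = a ∧ IsScal L F ∧
      ((∀ i, w0 cs * cs.simple i = cs.simple i * w0 cs) →
        ∃ f : LinearMap.BilinForm F V, f.IsAlt ∧ f.Nondegenerate ∧ ∀ g ∈ L, ∀ u v, f (g u) (g v) = f u v) := by
  obtain ⟨W, C, i1, cs, i2, i3, Δ, i4, hth, ⟨S⟩, hq, hT⟩ := hB
  obtain ⟨a, lab, P, hL, hJ, hpan, hU⟩ := h.core_lab (S := S) hth (fun J hJ k => exists_conj_not_mem cs hA hc hJ k)
  obtain ⟨x, -⟩ := h.hcov (S := S) 0
  obtain ⟨i, hi, hi1, hi2, ha⟩ := hL.two_le_a hJ hpan x
  obtain ⟨y, hxy⟩ := Opp.exists_opp Δ x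
  have hcomm := comm_T (S := S) hth h.irr' h.hcov hL hi1 hi2 hxy (hT x y hxy)
  have hcard := Cfsg.Agent.H428.CardEnd.card_end_eq S (rep L) hth h.irr' hxy hcomm
  rw [← card_endAlg_eq, hL.card_Vx x] at hcard
  obtain ⟨K, iK, iKf, iKm, hK, hs⟩ := exists_scal h.irr
  rw [hcard] at hK
  have hfr : finrank K V = a := by
    have h1 := Module.natCard_eq_pow_finrank (K := K) (V := V)
    rw [hL.card_V, Nat.card_eq_fintype_card, hK] at h1
    exact (Nat.pow_right_injective hL.two_le h1).symm
  refine ⟨P, a, W, i1, i2, cs, _, K, iK, iKf, iKm, fun j => ?_, hJ, hU, hL.index, ha, hK, hfr, hs, fun hw => ?_⟩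
  · rw [← hq x j, hpan x j]
  · obtain ⟨f, h1, h2, h3⟩ := Cfsg.Agent.H60.HerForm.exists_form (S := S) hth h.irr' h.hcov hL hpan ha hw h.perf (K := K)
      (fun c g v => hs.lin g.1 g.2 c v) (by rw [Nat.card_eq_fintype_card, hK])
    exact ⟨f, h1, h2, fun g hg u v => h3 ⟨g, hg⟩ u v⟩

end Cfsg.Agent.H50.Her
end

-- part: H797/HerSys
section
/-!
# The building of a root group datum with exact panels (helper797, HERING hub, task 961)

* `neg_inf_B` : `X_{-i} ∩ B = 1`;
* `bld_of_pan` : a simple group with a root group datum `HasPan p M q` has the building `HasBld p M q`;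
* `hasBld_of_pan`, `hasSysT_of_rgdT` : the same for central extensions by `p'`-groups.
-/

set_option autoImplicit false
set_option linter.unusedSectionVars false

namespace Cfsg.Agent.H797.HerSys

open Cfsg Cfsg.Agent.H50.Her Module
open Cfsg.Agent.Tits.Core Cfsg.Agent.Tits.Core.Bldg Cfsg.Agent.Tits.Exchange Cfsg.Agent.Tits
open Cfsg.Agent.FixBN Cfsg.Agent.FixBN.Cox Cfsg.Agent.Omega.CR Cfsg.Agent.Omega.CR.Bl
open Cfsg.Agent.LieRecognition.BNCox Cfsg.Agent.H905.DC

universe u v w

section rgd

open Subgroup CoxeterSystem Cfsg.Agent.ChevalleyStructure.CoxeterGeom Cfsg.Agent.Tits.Roots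
  Cfsg.Agent.Tits.RootComb Cfsg.Agent.Nodes.Comb Cfsg.Agent.Nodes.Reps Cfsg.Agent.Nodes.BNOf
  Cfsg.Agent.Omega.ML.LieRow Cfsg.Agent.Tits.OfBN Cfsg.Agent.LieExceptional.BNPairCore

variable {I W : Type*} [Fintype I] [DecidableEq I] [Group W] {M : CoxeterMatrix I}
  {cs : CoxeterSystem M W} {A : I → I → ℤ} {h : IsCartan M A}
  {Y : Type*} [Group Y] {p : ℕ} {Tor : Subgroup Y} {n : I → Y} {X : (I → ℤ) → Subgroup Y}

/-- `X_{-i} ∩ B = 1`. -/
theorem neg_inf_B [Finite W] (R : RGD cs h p Tor n X) {i : I} {x : Y} (hx : x ∈ X (-sr i))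
    (hB : x ∈ RGD.B cs h Tor X) : x = 1 := by
  by_contra hx1
  obtain ⟨a, ha, t, ht, b, hb, e⟩ := R.rk1 i x hx hx1
  have haB := RGD.X_le_B (X := X) (T := Tor) (isRoot_sr cs h i) (sr_nonneg i) ha
  have hbB := RGD.X_le_B (X := X) (T := Tor) (isRoot_sr cs h i) (sr_nonneg i) hb
  have htB := RGD.T_le_B (cs := cs) (h := h) (X := X) ht
  have hn : n i ∈ RGD.B cs h Tor X := by
    have h1 : n i = t⁻¹ * a⁻¹ * x * b⁻¹ := by rw [e]; group
    rw [h1]
    exact mul_mem (mul_mem (mul_mem (inv_mem htB) (inv_mem haB)) hB) (inv_mem hbB)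
  have h2 := R.eq_one_of_mem_B (rp_simple cs R.nsys i) hn
  have h3 := cs.length_simple i
  rw [h2, cs.length_one] at h3
  exact absurd h3 (by norm_num)

/-- `u n_i B = u' n_i B` implies `u = u'`. -/
theorem eq_of_mul_n [Finite W] (R : RGD cs h p Tor n X) {i : I} {u u' : Y} (hu : u ∈ X (sr i)) (hu' : u' ∈ X (sr i))
    (he : (u * n i)⁻¹ * (u' * n i) ∈ RGD.B cs h Tor X) : u = u' := by
  have h1 : (u * n i)⁻¹ * (u' * n i) = (n i)⁻¹ * (u⁻¹ * u') * n i := by group
  rw [h1] at he
  have h2 : (n i)⁻¹ * (u⁻¹ * u') * n i ∈ X (-sr i) := by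
    have := R.conj_mem' (rp_simple cs R.nsys i) (isRoot_sr cs h i) (mul_mem (inv_mem hu) hu')
    rwa [inv_simple, rep_simple_sr] at this
  have h3 := neg_inf_B R h2 he
  have h4 : u⁻¹ * u' = 1 := by
    have h5 : u⁻¹ * u' = n i * ((n i)⁻¹ * (u⁻¹ * u') * n i) * (n i)⁻¹ := by group
    rw [h5, h3]; group
  exact inv_mul_eq_one.1 h4

/-- **The building of a simple group with a root group datum**, with the panels and the stabilisers of opposite pairs. -/
theorem bld_of_rgd [Finite W] [Nonempty I] (hp : p.Prime) {K : Type u} [Group K] [Finite K] [IsSimpleGroup K]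
    {Tor : Subgroup K} {n : I → K} {X : (I → ℤ) → Subgroup K} (R : RGD cs h p Tor n X)
    (hG1 : Nodes.RGDLib.G1 cs h X = ⊤) (hT : ∀ s ∈ Tor, ∀ t ∈ Tor, s * t = t * s) :
    ∃ (W' C : Type u) (_ : Group W') (cs' : CoxeterSystem M W') (_ : Finite W') (_ : Fintype C) (Δ : Bldg cs' C)
      (_ : MulAction K C), Δ.Thick ∧ Nonempty (Sys Δ K p) ∧
        (∀ (x : C) (i : I), Nat.card {y : C // Δ.δ x y = cs'.simple i} = Nat.card (X (sr i))) ∧
        ∀ x y : C, Δ.Opp x y → ∀ g g' : K, g • x = x → g • y = y → g' • x = x → g' • y = y →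
          g * g' * g⁻¹ * g'⁻¹ = 1 := by
  have : Fact p.Prime := ⟨hp⟩
  have hgen : RGD.B cs h Tor X ⊔ NN cs R.nsys = ⊤ := by
    rw [eq_top_iff, ← hG1]
    exact Nodes.RGDLib.rgd_G1_le R
  obtain ⟨i₀⟩ := (inferInstance : Nonempty I)
  have hne : (R.bnPair hgen).S.Nonempty := ⟨n i₀, i₀, rfl⟩
  have hP := SplitRGD.split_of_rgd hp R hgen
    (Cfsg.Agent.Tits.OfBN.normalCore_eq_bot (R.bnPair hgen) hne)
  obtain ⟨e, hen, hN, cs', hcs⟩ : ∃ e : I ≃ (R.bnPair hgen).S, (∀ i, (e i : K) = n i) ∧ BNType (R.bnPair hgen) M e :=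
    ⟨Equiv.ofInjective n R.n_injective, fun _ => rfl, Cfsg.Agent.Omega.ML.Ex.Typ.bnType R hgen⟩
  have hth := thick (R.bnPair hgen) e cs' hcs
  have S := OfBN.sys e cs' hcs hP
  refine ⟨WP (R.bnPair hgen), K ⧸ (R.bnPair hgen).B, inferInstance, cs', inferInstance, Fintype.ofFinite _, _,
    inferInstance, hth, ⟨S⟩, ?_, ?_⟩
  · intro c i
    induction c using QuotientGroup.induction_on with
    | _ g =>
    symm
    have hin : ∀ u ∈ X (sr i), (bldg (R.bnPair hgen) e cs' hcs).δ (QuotientGroup.mk g)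
        (QuotientGroup.mk (g * (u * n i))) = cs'.simple i := by
      intro u hu
      rw [bldg_δ_mk, hcs]
      apply wt_of_mem
      refine mem_C.2 ⟨u, RGD.X_le_B (isRoot_sr cs h i) (sr_nonneg i) hu, 1, one_mem _, ?_⟩
      change g⁻¹ * (g * (u * n i)) = u * (e i : K) * 1
      rw [hen i]
      group
    refine Nat.card_congr (Equiv.ofBijective (fun u : X (sr i) =>
      (⟨QuotientGroup.mk (g * ((u : K) * n i)), hin u u.2⟩ : {y : K ⧸ (R.bnPair hgen).B //
        (bldg (R.bnPair hgen) e cs' hcs).δ (QuotientGroup.mk g) y = cs'.simple i})) ⟨?_, ?_⟩)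
    · rintro ⟨u, hu⟩ ⟨u', hu'⟩ he
      have h1 := QuotientGroup.eq.1 (congrArg Subtype.val he)
      apply Subtype.ext
      refine eq_of_mul_n R hu hu' ?_
      have h2 : (u * n i)⁻¹ * (u' * n i) = (g * (u * n i))⁻¹ * (g * (u' * n i)) := by group
      rw [h2]
      exact h1
    · rintro ⟨y, hy⟩
      induction y using QuotientGroup.induction_on with
      | _ a =>
      have h1 : wt (R.bnPair hgen) (g⁻¹ * a) = cs'.simple i := by
        rw [← bldg_δ_mk (R.bnPair hgen) e cs' hcs]
        exact hy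
      rw [hcs] at h1
      obtain ⟨b, hb, b', hb', h2⟩ := mem_C.1 (mem_C_of_wt _ h1)
      have h3 : g⁻¹ * a = b * n i * b' := by
        have h4 : g⁻¹ * a = b * (e i : K) * b' := h2
        rw [h4, hen i]
      obtain ⟨u, hu, b₂, hb₂, h4⟩ := Cfsg.Agent.Omega.ML.Ex.Typ.exists_u R (i := i) hb
      refine ⟨⟨u, hu⟩, Subtype.ext ?_⟩
      have h5 : a = g * (u * n i) * (b₂ * b') := by
        have h6 : a = g * (g⁻¹ * a) := by group
        rw [h6, h3, h4]
        group
      change _ = (QuotientGroup.mk a : K ⧸ (R.bnPair hgen).B)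
      rw [h5]
      exact (QuotientGroup.mk_mul_of_mem _ (mul_mem hb₂ hb')).symm
  · intro x y hxy
    obtain ⟨c, hc⟩ : ∃ c : K, ∀ g : K, g • x = x → g • y = y → c⁻¹ * g * c ∈ Tor := by
      induction x using QuotientGroup.induction_on with
      | _ a =>
      induction y using QuotientGroup.induction_on with
      | _ b =>
      obtain ⟨m, hm⟩ := exists_mem_C (R.bnPair hgen) (a⁻¹ * b)
      obtain ⟨b₁, hb₁, b₂, hb₂, h2⟩ := mem_C.1 hm
      refine ⟨a * b₁, fun g hgx hgy => ?_⟩
      have hgx' : a⁻¹ * g * a ∈ RGD.B cs h Tor X := OfBN.smul_mk_eq.1 hgx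
      have hgy' : b⁻¹ * g * b ∈ RGD.B cs h Tor X := OfBN.smul_mk_eq.1 hgy
      have h3 : (a * b₁)⁻¹ * g * (a * b₁) ∈ RGD.B cs h Tor X := by
        have h4 : (a * b₁)⁻¹ * g * (a * b₁) = b₁⁻¹ * (a⁻¹ * g * a) * b₁ := by group
        rw [h4]
        exact mul_mem (mul_mem (inv_mem hb₁) hgx') hb₁
      obtain ⟨t, ht, u, hu, h4⟩ := R.mem_B.1 h3
      -- `t` and `g` fix `a b₁ m B`
      have h5 : b = a * b₁ * (m : K) * b₂ := by
        have h6 : b = a * (a⁻¹ * b) := by group
        rw [h6, h2]; group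
      have h6 : (m : K)⁻¹ * ((a * b₁)⁻¹ * g * (a * b₁)) * m ∈ RGD.B cs h Tor X := by
        have h7 : (m : K)⁻¹ * ((a * b₁)⁻¹ * g * (a * b₁)) * m = b₂ * (b⁻¹ * g * b) * b₂⁻¹ := by
          rw [h5]; group
        rw [h7]
        exact mul_mem (mul_mem hb₂ hgy') (inv_mem hb₂)
      have h7 : (m : K)⁻¹ * t * m ∈ RGD.B cs h Tor X := by
        have h8 := (R.bnPair hgen).conj_mem (m : K)⁻¹ (inv_mem m.2) t
          (show t ∈ RGD.B cs h Tor X ⊓ NN cs R.nsys by rw [R.B_inf_NN]; exact ht)
        rw [inv_inv] at h8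
        exact h8
      have h8 : (m : K)⁻¹ * u * m ∈ RGD.B cs h Tor X := by
        have h9 : (m : K)⁻¹ * u * m = ((m : K)⁻¹ * t * m)⁻¹ * ((m : K)⁻¹ * ((a * b₁)⁻¹ * g * (a * b₁)) * m) := by
          rw [h4]; group
        rw [h9]
        exact mul_mem (inv_mem h7) h6
      have h9 : u = 1 := by
        refine OfBN.free e cs' hcs hP (x := QuotientGroup.mk 1) (y := QuotientGroup.mk (m : K)) ?_
          ((OfBN.mem_UU hP).2 ?_) (OfBN.smul_mk_eq.2 h8)
        · have h10 : (bldg (R.bnPair hgen) e cs' hcs).δ (QuotientGroup.mk a) (QuotientGroup.mk b) = w0 cs' := hxy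
          change (bldg (R.bnPair hgen) e cs' hcs).δ (QuotientGroup.mk 1) (QuotientGroup.mk (m : K)) = w0 cs'
          rw [← h10, bldg_δ_mk, bldg_δ_mk, wt_of_mem _ hm]
          apply wt_of_mem
          exact mem_C.2 ⟨1, one_mem _, 1, one_mem _, by group⟩
        · have h11 : (1 : K)⁻¹ * u * 1 = u := by group
          rw [h11]
          exact hu
      rw [h4, h9, mul_one]
      exact ht
    intro g g' hg hgy hg' hgy'
    have h1 := hT _ (hc g hg hgy) _ (hc g' hg' hgy')
    have h2 : g * g' * g⁻¹ * g'⁻¹ = c * ((c⁻¹ * g * c) * (c⁻¹ * g' * c)) * (c * ((c⁻¹ * g' * c) * (c⁻¹ * g * c)))⁻¹ := by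
      group
    rw [h2, h1, mul_inv_cancel]

end rgd

/-- the quotient `Y ⧸ ker f` is simple when `f` is onto a simple group -/
theorem simple_quot {Y : Type u} {Y' : Type v} [Group Y] [Group Y'] [IsSimpleGroup Y'] (f : Y →* Y')
    (hs : Function.Surjective f) : IsSimpleGroup (Y ⧸ f.ker) := by
  exact (QuotientGroup.quotientKerEquivOfSurjective f hs).isSimpleGroup

theorem hasBld_of_pan {p : ℕ} (hp : p.Prime) {l : ℕ} (hl : 0 < l) {M : CoxeterMatrix (Fin l)} {q : Fin l → ℕ}
    {Y : Type u} {Y' : Type v} [Group Y] [Finite Y] [Group Y'] [IsSimpleGroup Y'] (h : HasPan p M q Y')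
    (f : Y →* Y') (hf : f.ker = Subgroup.center Y) (hpf : (Nat.card f.ker).Coprime p) (hs : Function.Surjective f) :
    HasBld p M q Y := by
  have : Fact p.Prime := ⟨hp⟩
  have : Nonempty (Fin l) := ⟨⟨0, hl⟩⟩
  have := simple_quot f hs
  obtain ⟨A, hA, T, n, X, hW, R, hX, hT, -, hq⟩ :=
    h.of_equiv (QuotientGroup.quotientKerEquivOfSurjective f hs).symm
  obtain ⟨W, C, i1, cs, i2, i3, Δ, i4, hth, ⟨S⟩, h1, h2⟩ := bld_of_rgd hp R hX hT
  have hk : (QuotientGroup.mk' f.ker).ker = f.ker := QuotientGroup.ker_mk' _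
  refine ⟨W, C, i1, cs, i2, i3, Δ, MulAction.compHom C (QuotientGroup.mk' f.ker), hth,
    ⟨sysLift S (QuotientGroup.mk' f.ker) (hk.trans hf).le (hk.symm ▸ hpf) (QuotientGroup.mk'_surjective _)⟩, ?_, ?_⟩
  · intro x i
    rw [h1, hq]
  · intro x y hxy g g' hg hgy hg' hgy'
    have h3 := h2 x y hxy (QuotientGroup.mk' f.ker g) (QuotientGroup.mk' f.ker g') hg hgy hg' hgy'
    rw [← hf, ← hk, MonoidHom.mem_ker, map_mul, map_mul, map_mul, map_inv, map_inv]
    exact h3

theorem hasSysT_of_rgdT {p : ℕ} (hp : p.Prime) {l : ℕ} (hl : 0 < l) {M : CoxeterMatrix (Fin l)}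
    {Y : Type u} {Y' : Type v} [Group Y] [Finite Y] [Group Y'] [IsSimpleGroup Y']
    (h : Cfsg.Agent.Omega.ML.Ex.Typ.HasRGDT p M Y')
    (f : Y →* Y') (hf : f.ker = Subgroup.center Y) (hpf : (Nat.card f.ker).Coprime p) (hs : Function.Surjective f) :
    HasSysT p M Y := by
  have : Fact p.Prime := ⟨hp⟩
  have : Nonempty (Fin l) := ⟨⟨0, hl⟩⟩
  have := simple_quot f hs
  have hk : (QuotientGroup.mk' f.ker).ker = f.ker := QuotientGroup.ker_mk' _
  have h1 := (h.of_equiv (QuotientGroup.quotientKerEquivOfSurjective f hs).symm).hasSplitT hp hl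
  exact (hasSysT_of_splitT hp h1).lift (QuotientGroup.mk' f.ker) (hk.trans hf).le (hk.symm ▸ hpf)
    (QuotientGroup.mk'_surjective _)

end Cfsg.Agent.H797.HerSys
end

-- part: H256/WZeroComm
section
/-!
# The longest element of `W(B_n)` and `W(G_2)` is central (task 619, for helper50)
-/

set_option autoImplicit false
set_option linter.unusedSectionVars false

namespace Cfsg.Agent.H256.WZero

open CoxeterSystem Cfsg.Agent.Tits.Core

variable {I : Type*} {M : CoxeterMatrix I} {W : Type*} [Group W] [Finite W] (cs : CoxeterSystem M W)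
  [Cfsg.Agent.Tits.OppRes.Cox cs]

theorem op_M [Fintype I] [DecidableEq I] (i j : I) : M (op cs i) (op cs j) = M i j := by
  have F : Tits.OppRes.Cox cs := inferInstance
  rw [← LieRecognition.CoxForm.orderOf_eq cs, ← LieRecognition.CoxForm.orderOf_eq cs, F.op, F.op]
  have h := F.w0_mul_self
  have e : w0 cs * cs.simple i * w0 cs * (w0 cs * cs.simple j * w0 cs) =
      w0 cs * (cs.simple i * cs.simple j) * (w0 cs)⁻¹ := by
    rw [F.w0_inv]
    calc w0 cs * cs.simple i * w0 cs * (w0 cs * cs.simple j * w0 cs)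
        = w0 cs * cs.simple i * (w0 cs * w0 cs) * cs.simple j * w0 cs := by group
      _ = w0 cs * (cs.simple i * cs.simple j) * w0 cs := by rw [h]; group
  rw [e]
  have := orderOf_injective (MulAut.conj (w0 cs)).toMonoidHom (MulAut.conj (w0 cs)).injective
    (cs.simple i * cs.simple j)
  simpa only [_root_.MulEquiv.toMonoidHom_eq_coe, _root_.MonoidHom.coe_coe, _root_.MulAut.conj_apply] using this

theorem op_inj : Function.Injective (op cs) := by
  have F : Tits.OppRes.Cox cs := inferInstance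
  intro i j hij
  apply F.inj
  have h1 := F.op i
  rw [hij, F.op j] at h1
  exact (mul_left_cancel (mul_right_cancel h1)).symm

theorem comm_of_op {i : I} (h : op cs i = i) : w0 cs * cs.simple i = cs.simple i * w0 cs := by
  have F : Tits.OppRes.Cox cs := inferInstance
  have h1 := F.op i
  rw [h] at h1
  have h2 := F.w0_mul_self
  calc w0 cs * cs.simple i = w0 cs * cs.simple i * (w0 cs * w0 cs) := by rw [h2, mul_one]
    _ = w0 cs * cs.simple i * w0 cs * w0 cs := by group
    _ = cs.simple i * w0 cs := by rw [← h1]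

/-- a node all whose edges are even is fixed by the opposition involution -/
theorem op_of_even [DecidableEq I] (k : I) (hk : ∀ i, i ≠ k → Even (M i k)) : op cs k = k := by
  have F : Tits.OppRes.Cox cs := inferInstance
  let f : I → ℤˣ := fun i => if i = k then -1 else 1
  have hf : M.IsLiftable f := by
    intro i j
    by_cases hi : i = k
    · by_cases hj : j = k
      · subst hi; subst hj
        simp [f]
      · subst hi
        have h1 : Even (M i j) := by rw [M.symmetric]; exact hk j hj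
        simp [f, hj, h1.neg_one_pow]
    · by_cases hj : j = k
      · subst hj
        simp [f, hi, (hk i hi).neg_one_pow]
      · simp [f, hi, hj]
  let χ : W →* ℤˣ := cs.lift ⟨f, hf⟩
  have hχ : ∀ i, χ (cs.simple i) = f i := fun i => cs.lift_apply_simple hf i
  have h1 := congrArg χ (F.op k)
  rw [map_mul, map_mul, hχ, hχ] at h1
  have h2 : χ (w0 cs) * χ (w0 cs) = 1 := by rw [← map_mul, F.w0_mul_self, map_one]
  have h3 : f (op cs k) = f k := by
    rw [h1, mul_comm (χ (w0 cs)), mul_assoc, h2, mul_one]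
  by_contra hne
  have h4 : f k = -1 := by simp [f]
  have h5 : f (op cs k) = 1 := by simp [f, hne]
  rw [h4, h5] at h3
  exact absurd h3 (by decide)

theorem w0_comm_G {W : Type*} [Group W] [Finite W] (cs : CoxeterSystem CoxeterMatrix.G₂ W)
    [Cfsg.Agent.Tits.OppRes.Cox cs] (i : Fin 2) : w0 cs * cs.simple i = cs.simple i * w0 cs := by
  apply comm_of_op
  apply op_of_even
  have h : ∀ i j : Fin 2, j ≠ i → CoxeterMatrix.G₂ j i = 6 := by decide
  intro j hj
  rw [h i j hj]
  decide

theorem B_val {n : ℕ} (i j : Fin n) : CoxeterMatrix.B n i j =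
    if i = j then 1 else (if (i : ℕ) = n - 1 ∧ (j : ℕ) = n - 2 ∨ (j : ℕ) = n - 1 ∧ (i : ℕ) = n - 2 then 4
      else (if (j : ℕ) + 1 = i ∨ (i : ℕ) + 1 = j then 3 else 2)) := rfl

theorem op_B {n : ℕ} {W : Type*} [Group W] [Finite W] (cs : CoxeterSystem (CoxeterMatrix.B n) W)
    [Cfsg.Agent.Tits.OppRes.Cox cs] : ∀ (k : ℕ) (i : Fin n), (i : ℕ) + 1 + k = n → op cs i = i := by
  intro k
  induction k using Nat.strong_induction_on with
  | _ k ih =>
    intro i hi
    rcases Nat.eq_zero_or_pos k with h0 | h0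
    · subst h0
      apply op_of_even
      intro j hj
      rw [B_val, if_neg hj]
      have hjn := j.2
      have hne : (j : ℕ) ≠ i := fun h => hj (Fin.ext h)
      split_ifs with h1 h2
      · decide
      · exfalso
        rcases h2 with h2 | h2
        · omega
        · apply h1; right; omega
      · decide
    · have hi' : (i : ℕ) + 1 < n := by omega
      let j : Fin n := ⟨i + 1, hi'⟩
      have hj : op cs j = j := ih (k - 1) (by omega) j (by show (i : ℕ) + 1 + 1 + (k - 1) = n; omega)
      have h1 := op_M cs i j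
      rw [hj] at h1
      have hne : op cs i ≠ j := by
        intro h
        rw [← hj] at h
        have := op_inj cs h
        have h2 := congrArg Fin.val this
        simp only [j] at h2
        omega
      have hji : (j : ℕ) = i + 1 := rfl
      have hij : i ≠ j := fun h => by
        have h2 := congrArg Fin.val h
        omega
      have ho := (op cs i).2
      have hne' : ((op cs i : Fin n) : ℕ) ≠ j := fun h => hne (Fin.ext h)
      rw [B_val, B_val, if_neg hne, if_neg hij] at h1
      apply Fin.ext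
      rcases Nat.lt_or_ge (j + 1 : ℕ) n with h3 | h3
      · -- the node `j + 1` is fixed too
        let l : Fin n := ⟨j + 1, h3⟩
        have hl : op cs l = l := ih (k - 2) (by omega) l (by show (i : ℕ) + 1 + 1 + 1 + (k - 2) = n; omega)
        have hnl : op cs i ≠ l := by
          intro h
          rw [← hl] at h
          have := op_inj cs h
          have h2 := congrArg Fin.val this
          have h4 : (l : ℕ) = i + 2 := rfl
          omega
        have hnl' : ((op cs i : Fin n) : ℕ) ≠ i + 2 := fun h => hnl (Fin.ext h)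
        split_ifs at h1 <;> omega
      · split_ifs at h1 <;> omega

theorem w0_comm_B {n : ℕ} {W : Type*} [Group W] [Finite W] (cs : CoxeterSystem (CoxeterMatrix.B n) W)
    [Cfsg.Agent.Tits.OppRes.Cox cs] (i : Fin n) : w0 cs * cs.simple i = cs.simple i * w0 cs :=
  comm_of_op cs (op_B cs (n - (i + 1)) i (by have := i.2; omega))

end Cfsg.Agent.H256.WZero
end

-- part: H256/GTwoEight
section
/-!
# `G_2(q)`, `q` odd, contains an elementary abelian group of order 8 (task 617, for helper50)
-/

set_option autoImplicit false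
set_option linter.unusedSectionVars false

namespace Cfsg.Agent.H256.GTwoEight

open Cfsg.Lie Cfsg.Agent.ChevalleyStructure Cfsg.Agent.ChevalleyStructure.Elts Cfsg.Agent.ChevalleyStructure.G2Sym
  Cfsg.Agent.ChevalleyStructure.G2N

section Abs

variable {G : Type*} [Group G]

/-- the homomorphism from a group of order 2 -/
def two {a : G} (ha : a * a = 1) : ℤˣ →* G where
  toFun u := if u = 1 then 1 else a
  map_one' := if_pos rfl
  map_mul' u v := by
    rcases Int.units_eq_one_or u with rfl | rfl <;> rcases Int.units_eq_one_or v with rfl | rfl <;>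
      simp [ha]

theorem two_one {a : G} (ha : a * a = 1) : two ha 1 = 1 := map_one _

theorem two_neg {a : G} (ha : a * a = 1) : two ha (-1) = a := by
  show (if (-1 : ℤˣ) = 1 then 1 else a) = a
  exact if_neg (by decide)

theorem exists_eight_abs {a b c : G} (ha : a * a = 1) (hb : b * b = 1) (hc : c * c = 1) (hab : a * b = b * a)
    (hac : a * c = c * a) (hbc : b * c = c * b) (n1 : a ≠ 1) (n2 : b ≠ 1) (n3 : a * b ≠ 1) (n4 : c ≠ 1)
    (n5 : c * a ≠ 1) (n6 : c * b ≠ 1) (n7 : c * (a * b) ≠ 1) :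
    ∃ E : Subgroup G, Nat.card E = 8 ∧ ∀ x ∈ E, x * x = 1 := by
  let f : ℤˣ × ℤˣ →* G := (two ha).noncommCoprod (two hb) (by
    intro u v
    rcases Int.units_eq_one_or u with rfl | rfl <;> rcases Int.units_eq_one_or v with rfl | rfl
    · rw [two_one, two_one]
    · rw [two_one]; exact Commute.one_left _
    · rw [two_one]; exact Commute.one_right _
    · rw [two_neg, two_neg]; exact hab)
  have hf : ∀ u v, f (u, v) = two ha u * two hb v := fun u v => rfl
  let g : ℤˣ × (ℤˣ × ℤˣ) →* G := (two hc).noncommCoprod f (by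
    rintro u ⟨v, w⟩
    rw [hf]
    rcases Int.units_eq_one_or u with rfl | rfl
    · rw [two_one]; exact Commute.one_left _
    · rw [two_neg]
      refine Commute.mul_right ?_ ?_
      · rcases Int.units_eq_one_or v with rfl | rfl
        · rw [two_one]; exact Commute.one_right _
        · rw [two_neg]; exact hac.symm
      · rcases Int.units_eq_one_or w with rfl | rfl
        · rw [two_one]; exact Commute.one_right _
        · rw [two_neg]; exact hbc.symm)
  have hg : ∀ u v w, g (u, (v, w)) = two hc u * (two ha v * two hb w) := fun u v w => rfl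
  have hinj : Function.Injective g := by
    rw [injective_iff_map_eq_one]
    rintro ⟨u, v, w⟩ h
    rw [hg] at h
    rcases Int.units_eq_one_or u with rfl | rfl <;> rcases Int.units_eq_one_or v with rfl | rfl <;>
      rcases Int.units_eq_one_or w with rfl | rfl <;>
      simp only [two_one, two_neg, one_mul, mul_one] at h
    · rfl
    · exact absurd h n2
    · exact absurd h n1
    · exact absurd h n3
    · exact absurd h n4
    · exact absurd h n6
    · exact absurd h n5
    · exact absurd h n7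
  refine ⟨g.range, ?_, ?_⟩
  · rw [← Nat.card_congr (MonoidHom.ofInjective hinj).toEquiv, Nat.card_prod, Nat.card_prod,
      Nat.card_eq_fintype_card, Fintype.card_units_int]
  · rintro _ ⟨x, rfl⟩
    rw [← map_mul]
    have : x * x = 1 := by
      obtain ⟨u, v, w⟩ := x
      ext1
      · exact Int.units_mul_self u
      · ext1
        · exact Int.units_mul_self v
        · exact Int.units_mul_self w
    rw [this, map_one]

end Abs

variable {F : Type} [Field F]

theorem inList_G2' : InList chevG2 := by simp [InList]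

/-- the element of a word (all letters constant) -/
noncomputable def gw (F : Type) [Field F] (w : List (ℕ × _root_.Cfsg.Agent.ChevalleyStructure.G2Sym.Poly)) : GL chevG2.Idx F :=
  (w.map fun l => Elts.xG (F := F) inList_G2' l.1 (evP (fun _ => 0) l.2)).prod

theorem coe_gw (w : List (ℕ × _root_.Cfsg.Agent.ChevalleyStructure.G2Sym.Poly)) : (gw F w : Matrix chevG2.Idx chevG2.Idx F) =
    chevG2.wordMat F (w.map fun l => (l.1, evP (fun _ => 0) l.2)) := by
  unfold gw ChevalleyDatum.wordMat
  induction w with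
  | nil => rfl
  | cons l w ih =>
    rw [List.map_cons, List.prod_cons, Units.val_mul, ih, List.map_cons, List.map_cons, List.prod_cons]
    rfl

theorem gw_mem (w : List (ℕ × _root_.Cfsg.Agent.ChevalleyStructure.G2Sym.Poly)) : gw F w ∈ chevG2.group F := by
  unfold gw
  apply Subgroup.list_prod_mem
  intro x hx
  obtain ⟨l, -, rfl⟩ := List.mem_map.1 hx
  exact Elts.xG_mem_group _ _ _

theorem gw_append (w w' : List (ℕ × _root_.Cfsg.Agent.ChevalleyStructure.G2Sym.Poly)) : gw F (w ++ w') = gw F w * gw F w' := by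
  unfold gw
  rw [List.map_append, List.prod_append]

theorem gw_eq {w w' : List (ℕ × _root_.Cfsg.Agent.ChevalleyStructure.G2Sym.Poly)} (h : chk 0 w w' = true) : gw F w = gw F w' := by
  apply Units.ext
  rw [coe_gw, coe_gw]
  exact word_eq (F := F) cast_zero_int _ w w' h

/-- a column which differs from the identity -/
theorem gw_ne {w : List (ℕ × _root_.Cfsg.Agent.ChevalleyStructure.G2Sym.Poly)} (h2 : (2 : F) ≠ 0) (hw : (w.all fun l => Nat.blt l.1 12) = true) {k k' : ℕ}
    {c : ℤ} (hk : k < 14) (h : decide (runS 0 w (unitS k) = [(k', cst c)]) = true) (hne : k' ≠ k ∨ c = -1) :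
    gw F w ≠ 1 := by
  intro h1
  have h3 := congrArg (fun g : GL chevG2.Idx F => (g : Matrix chevG2.Idx chevG2.Idx F) (unflat k) (unflat k)) h1
  simp only [Units.val_one, Matrix.one_apply_eq] at h3
  rw [coe_gw, word_apply (F := F) cast_zero_int _ w (lt_of_all hw), flat_unflat hk, of_decide_eq_true h,
    evAt_cons, evAt_nil, add_zero, evP_cst] at h3
  rcases hne with hne | rfl
  · rw [if_neg hne] at h3
    exact zero_ne_one h3
  · split_ifs at h3 with hkk
    · apply h2
      have : ((-1 : ℤ) : F) = -1 := by push_cast; rfl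
      rw [this] at h3
      linear_combination -h3
    · exact zero_ne_one h3

def wa : List (ℕ × _root_.Cfsg.Agent.ChevalleyStructure.G2Sym.Poly) := nW 7 ++ nW 7
def wb : List (ℕ × _root_.Cfsg.Agent.ChevalleyStructure.G2Sym.Poly) := nW 6 ++ nW 6
def wc : List (ℕ × _root_.Cfsg.Agent.ChevalleyStructure.G2Sym.Poly) := nW 7 ++ nW 11

theorem exists_eight [Fintype F] (h2 : (2 : F) ≠ 0) :
    ∃ E : Subgroup ↥(Cfsg.Lie.chevG2.group F), Nat.card E = 8 ∧ ∀ x ∈ E, x * x = 1 := by
  have key : ∀ {w w' : List (ℕ × _root_.Cfsg.Agent.ChevalleyStructure.G2Sym.Poly)}, chk 0 w w' = true →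
      (⟨gw F w, gw_mem w⟩ : chevG2.group F) = ⟨gw F w', gw_mem w'⟩ := fun h => Subtype.ext (gw_eq h)
  have app : ∀ w w' : List (ℕ × _root_.Cfsg.Agent.ChevalleyStructure.G2Sym.Poly), (⟨gw F w, gw_mem w⟩ : chevG2.group F) * ⟨gw F w', gw_mem w'⟩ =
      ⟨gw F (w ++ w'), gw_mem _⟩ := fun w w' => Subtype.ext (gw_append w w').symm
  have nil : (⟨gw F [], gw_mem []⟩ : chevG2.group F) = 1 := Subtype.ext rfl
  refine exists_eight_abs (a := ⟨gw F wa, gw_mem wa⟩) (b := ⟨gw F wb, gw_mem wb⟩) (c := ⟨gw F wc, gw_mem wc⟩)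
    ?_ ?_ ?_ ?_ ?_ ?_ ?_ ?_ ?_ ?_ ?_ ?_ ?_
  · rw [app, ← nil]; exact key (by decide +kernel)
  · rw [app, ← nil]; exact key (by decide +kernel)
  · rw [app, ← nil]; exact key (by decide +kernel)
  · rw [app, app]; exact key (by decide +kernel)
  · rw [app, app]; exact key (by decide +kernel)
  · rw [app, app]; exact key (by decide +kernel)
  · rw [← nil]
    exact fun h => gw_ne (F := F) h2 (w := wa) (by decide +kernel) (k := 3) (k' := 3) (c := -1) (by norm_num)
      (by decide +kernel) (Or.inr rfl) (congrArg Subtype.val h)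
  · rw [← nil]
    exact fun h => gw_ne (F := F) h2 (w := wb) (by decide +kernel) (k := 2) (k' := 2) (c := -1) (by norm_num)
      (by decide +kernel) (Or.inr rfl) (congrArg Subtype.val h)
  · rw [app, ← nil]
    exact fun h => gw_ne (F := F) h2 (w := wa ++ wb) (by decide +kernel) (k := 2) (k' := 2) (c := -1) (by norm_num)
      (by decide +kernel) (Or.inr rfl) (congrArg Subtype.val h)
  · rw [← nil]
    exact fun h => gw_ne (F := F) h2 (w := wc) (by decide +kernel) (k := 0) (k' := 0) (c := -1) (by norm_num)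
      (by decide +kernel) (Or.inr rfl) (congrArg Subtype.val h)
  · rw [app, ← nil]
    exact fun h => gw_ne (F := F) h2 (w := wc ++ wa) (by decide +kernel) (k := 0) (k' := 0) (c := -1) (by norm_num)
      (by decide +kernel) (Or.inr rfl) (congrArg Subtype.val h)
  · rw [app, ← nil]
    exact fun h => gw_ne (F := F) h2 (w := wc ++ wb) (by decide +kernel) (k := 0) (k' := 0) (c := -1) (by norm_num)
      (by decide +kernel) (Or.inr rfl) (congrArg Subtype.val h)
  · rw [app, app, ← nil]
    exact fun h => gw_ne (F := F) h2 (w := wc ++ (wa ++ wb)) (by decide +kernel) (k := 0) (k' := 0) (c := -1)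
      (by norm_num) (by decide +kernel) (Or.inr rfl) (congrArg Subtype.val h)

end Cfsg.Agent.H256.GTwoEight
end

-- part: H131/HerTen
section
/-!
# Two facts for Hering's theorem (helper131, task G10 of helper50)

* `center_g2` : a perfect group `Y` with `Y / Z(Y) ≅ G₂(q)`, `|Z(Y)|` prime to `p`, has trivial centre;
* `no_eight` : an elementary abelian group of order `8` in `Sp₆(F)` contains `-1` (`2 ≠ 0` in `F`).
-/

set_option autoImplicit false
open Cfsg Module

universe u v w

namespace Cfsg.Agent.H131.HerTen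

/-- the eigenvector -/
theorem exists_eigen {F V E : Type*} [Field F] [AddCommGroup V] [Module F V] [Group E] (ρ : E →* Module.End F V)
    (hsq : ∀ x : E, x * x = 1) [Nontrivial V] (s : Finset E) :
    ∃ v : V, v ≠ 0 ∧ ∀ e ∈ s, ρ e v = v ∨ ρ e v = -v := by
  classical
  have hcomm : ∀ x y : E, x * y = y * x := by
    intro x y
    have h1 : ∀ z : E, z⁻¹ = z := fun z => inv_eq_of_mul_eq_one_left (hsq z)
    calc x * y = (x * y)⁻¹ := (h1 _).symm
      _ = y⁻¹ * x⁻¹ := mul_inv_rev _ _
      _ = y * x := by rw [h1, h1]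
  induction s using Finset.induction_on with
  | empty =>
    obtain ⟨v, hv⟩ := exists_ne (0 : V)
    exact ⟨v, hv, fun e he => absurd he (Finset.notMem_empty e)⟩
  | insert a s _ ih =>
    obtain ⟨v, hv, h⟩ := ih
    by_cases ha : ρ a v = -v
    · refine ⟨v, hv, fun e he => ?_⟩
      rcases Finset.mem_insert.1 he with rfl | he
      · exact Or.inr ha
      · exact h e he
    · refine ⟨v + ρ a v, fun h0 => ha (eq_neg_of_add_eq_zero_right h0), fun e he => ?_⟩
      rcases Finset.mem_insert.1 he with rfl | he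
      · left
        have h1 : ρ e (ρ e v) = v := by
          rw [← Module.End.mul_apply, ← map_mul, hsq, map_one, Module.End.one_apply]
        rw [map_add, h1, add_comm]
      · have h1 : ρ e (ρ a v) = ρ a (ρ e v) := by
          rw [← Module.End.mul_apply, ← map_mul, hcomm, map_mul, Module.End.mul_apply]
        rcases h e he with h2 | h2
        · left
          rw [map_add, h1, h2]
        · right
          rw [map_add, h1, h2, map_neg, neg_add]

/-- the partner -/
theorem exists_partner {F V E : Type*} [Field F] [AddCommGroup V] [Module F V] [Group E] (ρ : E →* Module.End F V)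
    (hsq : ∀ x : E, x * x = 1) (h2 : (2 : F) ≠ 0) {f : LinearMap.BilinForm F V}
    (hpres : ∀ e u v, f (ρ e u) (ρ e v) = f u v) {v : V} {ε : E → F} (hε : ∀ e, ε e * ε e = 1)
    (hv : ∀ e, ρ e v = ε e • v) {w₀ : V} (hw₀ : f v w₀ ≠ 0) (s : Finset E) :
    ∃ w : V, f v w ≠ 0 ∧ ∀ e ∈ s, ρ e w = ε e • w := by
  classical
  have hcomm : ∀ x y : E, x * y = y * x := by
    intro x y
    have h1 : ∀ z : E, z⁻¹ = z := fun z => inv_eq_of_mul_eq_one_left (hsq z)
    calc x * y = (x * y)⁻¹ := (h1 _).symm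
      _ = y⁻¹ * x⁻¹ := mul_inv_rev _ _
      _ = y * x := by rw [h1, h1]
  induction s using Finset.induction_on with
  | empty => exact ⟨w₀, hw₀, fun e he => absurd he (Finset.notMem_empty e)⟩
  | insert a s _ ih =>
    obtain ⟨w, hw, h⟩ := ih
    have hinv : ∀ (e : E) (x : V), ρ e (ρ e x) = x := fun e x => by
      rw [← Module.End.mul_apply, ← map_mul, hsq, map_one, Module.End.one_apply]
    have h3 : f v (ρ a w) = ε a * f v w := by
      have h4 := hpres a v (ρ a w)
      rw [hinv, hv, map_smul, LinearMap.smul_apply, smul_eq_mul] at h4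
      exact h4.symm
    refine ⟨w + ε a • ρ a w, ?_, fun e he => ?_⟩
    · rw [map_add, map_smul, h3, smul_eq_mul, ← mul_assoc, hε, one_mul, ← two_mul]
      exact mul_ne_zero h2 hw
    · rcases Finset.mem_insert.1 he with rfl | he
      · rw [map_add, map_smul, hinv, smul_add, smul_smul, hε, one_smul, add_comm]
      · have h1 : ρ e (ρ a w) = ρ a (ρ e w) := by
          rw [← Module.End.mul_apply, ← map_mul, hcomm, map_mul, Module.End.mul_apply]
        rw [map_add, map_smul, h1, h e he, map_smul, smul_add, smul_comm (ε e) (ε a)]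

/-- diagonalisation by hyperbolic planes -/
theorem exists_chars {F E : Type*} [Field F] [Group E] [Finite E] (hsq : ∀ x : E, x * x = 1) (h2 : (2 : F) ≠ 0)
    (n : ℕ) : ∀ {V : Type u} [AddCommGroup V] [Module F V] [FiniteDimensional F V] (_ : finrank F V = 2 * n)
    {f : LinearMap.BilinForm F V} (_ : f.IsAlt) (_ : ∀ u, (∀ v, f u v = 0) → u = 0) (ρ : E →* Module.End F V)
    (_ : ∀ e u v, f (ρ e u) (ρ e v) = f u v),
    ∃ χ : E →* (Fin n → ℤˣ), ∀ e, ((χ e = 1) → ρ e = 1) ∧ ((∀ i, χ e i = -1) → ρ e = -1) := by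
  classical
  have := Fintype.ofFinite E
  induction n with
  | zero =>
    intro V _ _ _ hV f _ _ ρ _
    have hsub : Subsingleton V := finrank_zero_iff.1 (by rw [hV])
    exact ⟨1, fun e => ⟨fun _ => Subsingleton.elim _ _, fun _ => Subsingleton.elim _ _⟩⟩
  | succ n ih =>
    intro V _ _ _ hV f hf hnd ρ hpres
    have hnt : Nontrivial V := Module.nontrivial_of_finrank_pos (R := F) (by rw [hV]; omega)
    obtain ⟨v, hv0, hv⟩ := exists_eigen ρ hsq (Finset.univ : Finset E)
    have hv' : ∀ e, ∃ ε : ℤˣ, ρ e v = ((ε : ℤ) : F) • v := by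
      intro e
      rcases hv e (Finset.mem_univ e) with h | h
      · exact ⟨1, by rw [h]; simp⟩
      · exact ⟨-1, by rw [h]; simp⟩
    choose ε hε using hv'
    have hεε : ∀ e, ((ε e : ℤ) : F) * ((ε e : ℤ) : F) = 1 := by
      intro e
      rcases Int.units_eq_one_or (ε e) with h | h <;> rw [h] <;> simp
    obtain ⟨w₀, hw₀⟩ : ∃ w₀, f v w₀ ≠ 0 := by
      by_contra hcon
      push Not at hcon
      exact hv0 (hnd v hcon)
    obtain ⟨w, hw, hwe⟩ := exists_partner ρ hsq h2 hpres (ε := fun e => ((ε e : ℤ) : F)) hεε hε hw₀ Finset.univ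
    have hwe' : ∀ e, ρ e w = ((ε e : ℤ) : F) • w := fun e => hwe e (Finset.mem_univ e)
    obtain ⟨c, hc⟩ : ∃ c, c = f v w := ⟨_, rfl⟩
    rw [← hc] at hw
    have hwv : f w v = -c := by
      rw [hc]
      exact (LinearMap.IsAlt.neg hf v w).symm
    have hvv : f v v = 0 := hf v
    have hww : f w w = 0 := hf w
    -- signs are a homomorphism
    have hinj : ∀ a b : ℤˣ, ((a : ℤ) : F) • v = ((b : ℤ) : F) • v → a = b := by
      intro a b hab
      have h3 : ((a : ℤ) : F) = ((b : ℤ) : F) := smul_left_injective F hv0 hab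
      have h1ne : (1 : F) ≠ -1 := by
        intro h4
        apply h2
        linear_combination h4
      rcases Int.units_eq_one_or a with rfl | rfl <;> rcases Int.units_eq_one_or b with rfl | rfl
      · rfl
      · exfalso; apply h1ne; simpa using h3
      · exfalso; apply h1ne; simpa using h3.symm
      · rfl
    let χ₀ : E →* ℤˣ := MonoidHom.mk' ε (fun a b => by
      apply hinj
      rw [← hε, map_mul, Module.End.mul_apply, hε b, map_smul, hε a, smul_smul, mul_comm]
      push_cast
      rfl)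
    -- the complement
    let g : V →ₗ[F] F × F := LinearMap.prod (f.flip v) (f.flip w)
    let U : Submodule F V := LinearMap.ker g
    have hU : ∀ x, x ∈ U ↔ f x v = 0 ∧ f x w = 0 := by
      intro x
      show g x = 0 ↔ _
      exact Prod.mk_eq_zero
    have hgs : Function.Surjective g := by
      rintro ⟨a, b⟩
      refine ⟨(b / c) • v - (a / c) • w, ?_⟩
      show (f ((b / c) • v - (a / c) • w) v, f ((b / c) • v - (a / c) • w) w) = (a, b)
      rw [map_sub, map_smul, map_smul, LinearMap.sub_apply, LinearMap.sub_apply, LinearMap.smul_apply,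
        LinearMap.smul_apply, LinearMap.smul_apply, LinearMap.smul_apply, hvv, hww, hwv, ← hc]
      simp only [smul_eq_mul]
      ext
      · show b / c * 0 - a / c * -c = a
        field_simp
        ring
      · show b / c * c - a / c * 0 = b
        field_simp
        ring
    have hUdim : finrank F U = 2 * n := by
      have h3 := LinearMap.finrank_range_add_finrank_ker g
      rw [LinearMap.range_eq_top.2 hgs, finrank_top, finrank_prod, finrank_self, hV] at h3
      show finrank F (LinearMap.ker g) = 2 * n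
      omega
    have hUinv : ∀ e, ∀ x ∈ U, ρ e x ∈ U := by
      intro e x hx
      obtain ⟨h3, h4⟩ := (hU x).1 hx
      have hsm : ∀ y : V, ρ e y = ((ε e : ℤ) : F) • y → f x y = 0 → f (ρ e x) y = 0 := by
        intro y hy h5
        have h6 := hpres e x y
        rw [hy, map_smul, smul_eq_mul, h5] at h6
        have h7 : ((ε e : ℤ) : F) ≠ 0 := left_ne_zero_of_mul_eq_one (hεε e)
        exact (mul_eq_zero.1 h6).resolve_left h7
      exact (hU _).2 ⟨hsm v (hε e) h3, hsm w (hwe' e) h4⟩
    have hdec : ∀ x : V, ∃ (a b : F) (u : V), u ∈ U ∧ x = a • v + b • w + u := by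
      intro x
      refine ⟨f x w / c, -(f x v / c), x - ((f x w / c) • v + (-(f x v / c)) • w), ?_, by abel⟩
      rw [hU]
      constructor
      · rw [map_sub, map_add, map_smul, map_smul, LinearMap.sub_apply, LinearMap.add_apply,
          LinearMap.smul_apply, LinearMap.smul_apply, hvv, hwv]
        simp only [smul_eq_mul]
        field_simp
        ring
      · rw [map_sub, map_add, map_smul, map_smul, LinearMap.sub_apply, LinearMap.add_apply,
          LinearMap.smul_apply, LinearMap.smul_apply, hww, ← hc]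
        simp only [smul_eq_mul]
        field_simp
        ring
    let f' : LinearMap.BilinForm F U := f.domRestrict₁₂ U U
    have hf'a : ∀ x y : U, f' x y = f x y := fun _ _ => rfl
    have hf' : f'.IsAlt := fun x => hf x
    have hanti : ∀ x y, f x y = 0 → f y x = 0 := by
      intro x y h3
      rw [← LinearMap.IsAlt.neg hf x y, h3, neg_zero]
    have hnd' : ∀ u : U, (∀ v : U, f' u v = 0) → u = 0 := by
      intro u hu
      apply Subtype.ext
      apply hnd
      intro x
      obtain ⟨a, b, y, hy, rfl⟩ := hdec x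
      obtain ⟨h3, h4⟩ := (hU u).1 u.2
      have h5 : f u y = 0 := hu ⟨y, hy⟩
      rw [map_add, map_add, map_smul, map_smul, h3, h4, h5]
      simp
    let ρ' : E →* Module.End F U :=
      { toFun := fun e => (ρ e).restrict (hUinv e)
        map_one' := by
          ext x
          show ρ 1 (x : V) = (x : V)
          rw [map_one, Module.End.one_apply]
        map_mul' := fun a b => by
          ext x
          show ρ (a * b) (x : V) = ρ a (ρ b (x : V))
          rw [map_mul, Module.End.mul_apply] }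
    have hρ'a : ∀ e (x : U), ((ρ' e x : U) : V) = ρ e x := fun _ _ => rfl
    obtain ⟨χ', hχ'⟩ := ih (V := U) hUdim hf' hnd' ρ' (fun e x y => hpres e x y)
    let χ : E →* (Fin (n + 1) → ℤˣ) :=
      { toFun := fun e => Fin.cons (χ₀ e) (χ' e)
        map_one' := by
          funext i
          refine Fin.cases ?_ (fun j => ?_) i
          · simp
          · simp
        map_mul' := fun a b => by
          funext i
          refine Fin.cases ?_ (fun j => ?_) i
          · simp only [_root_.map_mul, _root_.Fin.cons_zero, _root_.Pi.mul_apply]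
          · simp }
    have hχ0 : ∀ e, χ e 0 = ε e := fun e => rfl
    have hχs : ∀ e j, χ e (Fin.succ j) = χ' e j := fun e j => rfl
    refine ⟨χ, fun e => ⟨fun h => ?_, fun h => ?_⟩⟩
    · have h3 : ε e = 1 := by rw [← hχ0, h]; rfl
      have h4 : ρ' e = 1 := (hχ' e).1 (by
        funext j
        rw [← hχs, h]
        rfl)
      ext x
      obtain ⟨a, b, y, hy, rfl⟩ := hdec x
      have h5 : ρ e y = y := by
        have := congrArg (fun φ : Module.End F U => ((φ ⟨y, hy⟩ : U) : V)) h4
        exact this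
      rw [map_add, map_add, map_smul, map_smul, hε, hwe', h3, h5]
      simp
    · have h3 : ε e = -1 := by rw [← hχ0, h]
      have h4 : ρ' e = -1 := (hχ' e).2 (by
        intro j
        rw [← hχs, h])
      ext x
      obtain ⟨a, b, y, hy, rfl⟩ := hdec x
      have h5 : ρ e y = -y := by
        have := congrArg (fun φ : Module.End F U => ((φ ⟨y, hy⟩ : U) : V)) h4
        exact this
      rw [map_add, map_add, map_smul, map_smul, hε, hwe', h3, h5]
      simp only [_root_.Units.val_neg, _root_.Units.val_one, _root_.Int.reduceNeg, _root_.Int.cast_neg, _root_.Int.cast_one, _root_.neg_smul, _root_.one_smul, _root_.smul_neg, _root_.LinearMap.neg_apply, _root_.Module.End.one_apply, _root_.neg_add_rev]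
      abel

section

variable {p : ℕ} [hp : Fact p.Prime] {V : Type u} [AddCommGroup V] [Module (ZMod p) V] [Finite V] [Nontrivial V]
  {F : Type} [Field F] [Fintype F] [Module F V] {L : Subgroup (V ≃ₗ[ZMod p] V)}

omit [Finite V] [Nontrivial V] in
theorem center_g2 {Y : Type*} [Group Y] [Finite Y] (hperf : commutator Y = ⊤) {K : Type} [Field K] [Fintype K]
    (hK : 3 ≤ Fintype.card K) [CharP K p] (e : Y ⧸ Subgroup.center Y ≃* Lie.chevG2.group K)
    (hpf : (Nat.card (Subgroup.center Y)).Coprime p) : Subgroup.center Y = ⊥ := by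
  let π : Y →* Lie.chevG2.group K := e.toMonoidHom.comp (QuotientGroup.mk' (Subgroup.center Y))
  have hπ : Function.Surjective π := e.surjective.comp (QuotientGroup.mk'_surjective _)
  have hker : π.ker = Subgroup.center Y := by
    ext x
    rw [MonoidHom.mem_ker]
    show e (QuotientGroup.mk x) = 1 ↔ _
    rw [map_eq_one_iff _ e.injective, QuotientGroup.eq_one_iff]
  have hcard : ∀ m : ℕ, HasCyclicSchurMultiplier (Lie.chevG2.group K) m → Nat.card (Subgroup.center Y) ∣ m := by
    intro m hm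
    have h1 := H264.CoverOver.card_ker_dvd hm hperf π hπ (by rw [hker])
    rwa [hker, Nat.card_congr (Multiplicative.toAdd (α := ZMod m)), Nat.card_zmod] at h1
  have hone : ∀ m : ℕ, m ∣ p → Nat.card (Subgroup.center Y) ∣ m → Subgroup.center Y = ⊥ := by
    intro m hm hd
    have h1 : Nat.card (Subgroup.center Y) ∣ 1 := by
      rw [← Nat.Coprime.gcd_eq_one hpf]
      exact Nat.dvd_gcd dvd_rfl (hd.trans hm)
    exact Subgroup.card_eq_one.1 (Nat.dvd_one.1 h1)
  have hdvd : ∀ q : ℕ, q.Prime → ∀ k : ℕ, Fintype.card K = q ^ k → q ∣ p := by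
    intro q hq k hk
    obtain ⟨n, hp', hn⟩ := FiniteField.card K p
    rw [hk] at hn
    have h1 : p ∣ q ^ k := by
      rw [hn]
      exact dvd_pow_self p n.ne_zero
    have h2 : p = q := (Nat.prime_dvd_prime_iff_eq hp' hq).1 (hp'.dvd_of_dvd_pow h1)
    rw [h2]
  rcases lt_or_ge (Fintype.card K) 5 with h5 | h5
  · have h34 : Fintype.card K = 3 ∨ Fintype.card K = 4 := by omega
    rcases h34 with h | h
    · exact hone 3 (hdvd 3 Nat.prime_three 1 (by rw [h]; rfl)) (hcard 3 (Cfsg.Agent.S2101.result h))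
    · exact hone 2 (hdvd 2 Nat.prime_two 2 (by rw [h]; rfl)) (hcard 2 (Cfsg.Agent.S2102.result h))
  · exact hone 1 (one_dvd p) (hcard 1 (Cfsg.Agent.S2100.result h5))

theorem no_eight (hlin : ∀ g ∈ L, ∀ (c : F) (v : V), g (c • v) = c • g v) (h2 : (2 : F) ≠ 0)
    (hcen : Subgroup.center L = ⊥) {f : LinearMap.BilinForm F V} (hf : f.IsAlt) (hnd : f.Nondegenerate)
    (hpres : ∀ h ∈ L, ∀ u v, f (h u) (h v) = f u v) (h6 : finrank F V = 6)
    (E : Subgroup (V ≃ₗ[ZMod p] V)) (hE : E ≤ L) (h8 : Nat.card E = 8) (hsq : ∀ x ∈ E, x * x = 1) : False := by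
  classical
  have hfd : FiniteDimensional F V := Module.Finite.of_finite
  have hfinE : Finite E := Nat.finite_of_card_ne_zero (by rw [h8]; norm_num)
  let ρ : E →* Module.End F V :=
    { toFun := fun e =>
        { toFun := fun v => e.1 v
          map_add' := fun a b => map_add _ a b
          map_smul' := fun c v => hlin e.1 (hE e.2) c v }
      map_one' := by
        ext x
        rfl
      map_mul' := fun a b => by
        ext x
        rfl }
  have hρ : ∀ (e : E) (v : V), ρ e v = e.1 v := fun _ _ => rfl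
  have hnd' : ∀ u, (∀ v, f u v = 0) → u = 0 := fun u hu => hnd.1 u hu
  obtain ⟨χ, hχ⟩ := exists_chars (F := F) (E := E) (fun x => Subtype.ext (hsq x.1 x.2)) h2 3 (V := V)
    (by rw [h6]) hf hnd' ρ (fun e u v => hpres e.1 (hE e.2) u v)
  have hinj : Function.Injective χ := by
    rw [injective_iff_map_eq_one]
    intro e he
    have h1 := (hχ e).1 he
    apply Subtype.ext
    apply LinearEquiv.ext
    intro v
    have h3 := congrArg (fun φ : Module.End F V => φ v) h1
    exact h3
  have hcard : Nat.card (Fin 3 → ℤˣ) = 8 := by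
    rw [Nat.card_eq_fintype_card, Fintype.card_fun]
    rfl
  have hbij : Function.Bijective χ := (Nat.bijective_iff_injective_and_card χ).2 ⟨hinj, by rw [h8, hcard]⟩
  obtain ⟨e, he⟩ := hbij.2 (fun _ => -1)
  have h1 : ρ e = -1 := (hχ e).2 (fun i => by rw [he])
  have h3 : ∀ v, e.1 v = -v := fun v => congrArg (fun φ : Module.End F V => φ v) h1
  have h4 : (⟨e.1, hE e.2⟩ : L) ∈ Subgroup.center L := by
    rw [Subgroup.mem_center_iff]
    intro g
    apply Subtype.ext
    apply LinearEquiv.ext
    intro v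
    show g.1 (e.1 v) = e.1 (g.1 v)
    rw [h3, h3, map_neg]
  rw [hcen, Subgroup.mem_bot] at h4
  have h5 : e.1 = 1 := congrArg Subtype.val h4
  obtain ⟨v, hv⟩ := exists_ne (0 : V)
  apply hv
  have h7 := h3 v
  rw [h5] at h7
  have h8' : v = -v := h7
  have h9 : (2 : F) • v = 0 := by
    rw [two_smul]
    nth_rewrite 2 [h8']
    exact add_neg_cancel v
  exact (smul_eq_zero.1 h9).resolve_left h2

end

end Cfsg.Agent.H131.HerTen
end

-- part: H347/Her/NatGroup
section
/-!
# Identification of `SL(V)` and `Sp(V)` by the order (helper347, task G9 of the hub of S3695)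
-/

set_option autoImplicit false

namespace Cfsg.Agent.H347.Her

open Cfsg Module Subgroup
open scoped commutatorElement

universe u v w

/-! ### Group theory -/

/-- If the quotient by the centre of a subgroup with central centre is as large as the quotient by the centre of the
perfect group, it is everything. -/
theorem eq_top_of_card {X : Type u} [Group X] [Finite X] (hX : commutator X = ⊤) (M : Subgroup X)
    (hz : ∀ z : M, z ∈ center M → (z : X) ∈ center X)
    (hc : Nat.card (M ⧸ center M) = Nat.card (X ⧸ center X)) : M = ⊤ := by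
  have hn : (center X).Normal := inferInstance
  have e1 : (center X).subgroupOf M = center M := by
    ext z
    rw [mem_subgroupOf]
    refine ⟨fun h => ?_, hz z⟩
    rw [mem_center_iff] at h ⊢
    intro g
    exact Subtype.ext (h g)
  have h1 : (center X).relIndex M = Nat.card (X ⧸ center X) := by
    rw [relIndex, e1]
    exact hc
  have h2 : (center X).relIndex (M ⊔ center X) = (center X).relIndex M := by
    rw [relIndex_sup_right]
  have h3 : (center X).relIndex (M ⊔ center X) * (M ⊔ center X).index = (center X).index :=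
    relIndex_mul_index le_sup_right
  have h4 : (M ⊔ center X).index = 1 := by
    rw [h2, h1] at h3
    have h5 : 0 < Nat.card (X ⧸ center X) := Nat.card_pos
    have h6 : (center X).index = Nat.card (X ⧸ center X) := rfl
    rw [h6] at h3
    exact Nat.eq_of_mul_eq_mul_left h5 (by rw [h3, mul_one])
  have h5 : M ⊔ center X = ⊤ := index_eq_one.1 h4
  have hMn : M.Normal := by
    rw [normalizer_eq_top_iff.symm, eq_top_iff, ← h5, sup_le_iff]
    exact ⟨le_normalizer, center_le_normalizer _⟩
  have h6 : commutator X ≤ M := by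
    rw [_root_.commutator_def]
    rw [commutator_le]
    intro a _ b _
    have hab : ∀ a : X, ∃ m ∈ M, ∃ z ∈ center X, a = m * z := by
      intro a
      have : a ∈ M ⊔ center X := by rw [h5]; trivial
      obtain ⟨m, hm, z, hz, e⟩ := mem_sup_of_normal_right.1 this
      exact ⟨m, hm, z, hz, e.symm⟩
    obtain ⟨m, hm, z, hz, rfl⟩ := hab a
    obtain ⟨m', hm', z', hz', rfl⟩ := hab b
    have e : ⁅m * z, m' * z'⁆ = ⁅m, m'⁆ := by
      rw [mem_center_iff] at hz hz'
      have q1 : m * z * (m' * z') = m * m' * (z * z') := by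
        rw [mul_assoc, ← mul_assoc z, ← hz m', mul_assoc m', ← mul_assoc m]
      have q2 : m' * z' * (m * z) = m' * m * (z * z') := by
        rw [mul_assoc, ← mul_assoc z', ← hz' m, mul_assoc m, ← mul_assoc m', hz z']
      rw [commutatorElement_def, commutatorElement_def]
      have q3 : m * z * (m' * z') * (m * z)⁻¹ * (m' * z')⁻¹ = (m * z * (m' * z')) * (m' * z' * (m * z))⁻¹ := by
        rw [mul_inv_rev (m' * z')]; group
      rw [q3, q1, q2]
      group
    rw [e]
    exact M.mul_mem (M.mul_mem (M.mul_mem hm hm') (M.inv_mem hm)) (M.inv_mem hm')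
  rw [eq_top_iff, ← hX]
  exact h6

/-- The same for a subgroup of a bigger group `E` containing the perfect group `X`. -/
theorem card_quot_center_congr {A : Type u} {B : Type v} [Group A] [Group B] [Finite A] (e : A ≃* B) :
    Nat.card (A ⧸ center A) = Nat.card (B ⧸ center B) := by
  have : Finite B := Finite.of_equiv A e.toEquiv
  have h1 := card_eq_card_quotient_mul_card_subgroup (center A)
  have h2 := card_eq_card_quotient_mul_card_subgroup (center B)
  have h3 : Nat.card A = Nat.card B := Nat.card_congr e.toEquiv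
  have h4 : Nat.card (center A) = Nat.card (center B) := Nat.card_congr (centerCongr e).toEquiv
  rw [h1, h2, h4] at h3
  exact Nat.eq_of_mul_eq_mul_right Nat.card_pos h3

theorem eq_range_of_card {X : Type u} {E : Type v} [Group X] [Group E] [Finite X] (θ : X →* E)
    (hθ : Function.Injective θ) (hX : commutator X = ⊤) (M : Subgroup E) (hM : M ≤ θ.range)
    (hz : ∀ z : M, z ∈ center M → ∀ g : E, (z : E) * g = g * z)
    (hc : Nat.card (M ⧸ center M) = Nat.card (X ⧸ center X)) : M = θ.range := by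
  have e : (M.comap θ) ≃* M := by
    refine MulEquiv.ofBijective (θ.subgroupComap M) ⟨?_, ?_⟩
    · intro a b h
      exact Subtype.ext (hθ (congrArg Subtype.val h))
    · rintro ⟨b, hb⟩
      obtain ⟨a, rfl⟩ := hM hb
      exact ⟨⟨a, hb⟩, rfl⟩
  have h1 : M.comap θ = ⊤ := by
    refine eq_top_of_card hX _ (fun z hzc => ?_) ((card_quot_center_congr e).trans hc)
    rw [mem_center_iff]
    intro x
    have hzM : (⟨θ z, z.2⟩ : M) ∈ center M := by
      rw [mem_center_iff]
      rintro ⟨b, hb⟩
      obtain ⟨a, rfl⟩ := hM hb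
      rw [mem_center_iff] at hzc
      have h2 := congrArg Subtype.val (hzc ⟨a, hb⟩)
      refine Subtype.ext ?_
      change θ a * θ z = θ z * θ a
      rw [← map_mul, ← map_mul]
      exact congrArg θ h2
    have h3 := hz _ hzM (θ x)
    apply hθ
    rw [map_mul, map_mul]
    exact h3.symm
  refine le_antisymm hM ?_
  rintro _ ⟨x, rfl⟩
  have : x ∈ M.comap θ := by rw [h1]; trivial
  exact this

/-! ### Linear maps -/

section Lin

variable {F : Type w} [Field F] {V : Type u} [AddCommGroup V] [Module F V]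

/-- The linear automorphisms given by a group of matrices. -/
noncomputable def theta {X : Type*} [Group X] {ι : Type*} [Fintype ι] [DecidableEq ι] (b : Basis ι F V)
    (j : X →* Matrix ι ι F) : X →* (V ≃ₗ[F] V) :=
  (LinearMap.GeneralLinearGroup.generalLinearEquiv F V).toMonoidHom.comp
    (((Matrix.toLinAlgEquiv b).toAlgHom.toRingHom.toMonoidHom.comp j).toHomUnits)

variable {X : Type*} [Group X] {ι : Type*} [Fintype ι] [DecidableEq ι] (b : Basis ι F V) (j : X →* Matrix ι ι F)

theorem theta_coe (x : X) : ((theta b j x : V ≃ₗ[F] V) : V →ₗ[F] V) = Matrix.toLin b b (j x) := rfl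

theorem theta_injective (hj : Function.Injective j) : Function.Injective (theta b j) := by
  intro x y h
  apply hj
  apply (Matrix.toLin b b).injective
  rw [← theta_coe b j x, ← theta_coe b j y, h]

theorem mem_range_theta {g : V ≃ₗ[F] V} : g ∈ (theta b j).range ↔ ∃ x, j x = LinearMap.toMatrix b b (g : V →ₗ[F] V) := by
  constructor
  · rintro ⟨x, rfl⟩
    exact ⟨x, by rw [theta_coe, LinearMap.toMatrix_toLin]⟩
  · rintro ⟨x, hx⟩
    refine ⟨x, ?_⟩
    apply LinearEquiv.toLinearMap_injective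
    rw [theta_coe, hx, Matrix.toLin_toMatrix]

end Lin

section

variable {p : ℕ} [hp : Fact p.Prime] {V : Type u} [AddCommGroup V] [Module (ZMod p) V]
  {F : Type} [Field F] [Module F V] {L : Subgroup (V ≃ₗ[ZMod p] V)}

/-- An `F`-linear automorphism is `ZMod p`-linear. -/
def res (p : ℕ) [hp : Fact p.Prime] (F : Type) [Field F] (V : Type u) [AddCommGroup V] [Module (ZMod p) V] [Module F V] :
    (V ≃ₗ[F] V) →* (V ≃ₗ[ZMod p] V) where
  toFun g := { g.toAddEquiv with map_smul' := fun c v => ZMod.map_smul g.toAddEquiv.toAddMonoidHom c v }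
  map_one' := rfl
  map_mul' := fun _ _ => rfl

theorem res_injective : Function.Injective (res p F V) := by
  intro g h e
  ext v
  exact LinearEquiv.congr_fun e v

theorem mem_comap_iff {g : V ≃ₗ[F] V} : g ∈ L.comap (res p F V) ↔ ∃ h ∈ L, ∀ v, h v = g v := by
  constructor
  · intro h
    exact ⟨_, h, fun v => rfl⟩
  · rintro ⟨h, hh, e⟩
    have : res p F V g = h := by
      ext v
      exact (e v).symm
    rw [mem_comap, this]
    exact hh

/-- The group of `F`-linear maps given by `L`. -/
noncomputable def resEquiv (hlin : ∀ g ∈ L, ∀ (c : F) (v : V), g (c • v) = c • g v) : (L.comap (res p F V)) ≃* L :=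
  MulEquiv.ofBijective ((res p F V).subgroupComap L) ⟨by
    intro a b h
    exact Subtype.ext (res_injective (congrArg Subtype.val h)), by
    rintro ⟨b, hb⟩
    exact ⟨⟨{ b.toAddEquiv with map_smul' := fun c v => hlin b hb c v }, by
      rw [mem_comap_iff]
      exact ⟨b, hb, fun v => rfl⟩⟩, Subtype.ext (LinearEquiv.ext fun v => rfl)⟩⟩

theorem resEquiv_apply (hlin : ∀ g ∈ L, ∀ (c : F) (v : V), g (c • v) = c • g v) (z : L.comap (res p F V)) (v : V) :
    (resEquiv hlin z : V ≃ₗ[ZMod p] V) v = (z : V ≃ₗ[F] V) v := rfl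

/-- The identification, general form. -/
theorem comap_eq_range [Finite V] {X : Type v} [Group X] [Finite X] (hX : commutator X = ⊤) (θ : X →* (V ≃ₗ[F] V))
    (hθ : Function.Injective θ) (hlin : ∀ g ∈ L, ∀ (c : F) (v : V), g (c • v) = c • g v)
    (hcen : ∀ z : L, z ∈ Subgroup.center L → ∃ c : F, ∀ v, (z : V ≃ₗ[ZMod p] V) v = c • v)
    (hle : L.comap (res p F V) ≤ θ.range)
    (hcard : Nat.card (L ⧸ Subgroup.center L) = Nat.card (X ⧸ center X)) :
    L.comap (res p F V) = θ.range := by
  have : Finite (V ≃ₗ[ZMod p] V) := DFunLike.finite _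
  have : Finite (V ≃ₗ[F] V) := DFunLike.finite _
  refine eq_range_of_card θ hθ hX _ hle (fun z hz g => ?_) ((card_quot_center_congr (resEquiv hlin)).trans hcard)
  have h1 : resEquiv hlin z ∈ center L := by
    rw [mem_center_iff] at hz ⊢
    intro g
    obtain ⟨g, rfl⟩ := (resEquiv hlin).surjective g
    rw [← map_mul, ← map_mul, hz]
  obtain ⟨c, hc⟩ := hcen _ h1
  ext v
  change (z : V ≃ₗ[F] V) (g v) = g ((z : V ≃ₗ[F] V) v)
  rw [← resEquiv_apply hlin z, ← resEquiv_apply hlin z, hc, hc, map_smul]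

end

section

variable {p : ℕ} [hp : Fact p.Prime] {V : Type u} [AddCommGroup V] [Module (ZMod p) V] [Finite V] [Nontrivial V]
  {F : Type} [Field F] [Fintype F] [Module F V] {L : Subgroup (V ≃ₗ[ZMod p] V)}

/-- `L` is `SL(V_F)`. -/
theorem nat_sl (hlin : ∀ g ∈ L, ∀ (c : F) (v : V), g (c • v) = c • g v) (hperf : commutator L = ⊤)
    (hcen : ∀ z : L, z ∈ Subgroup.center L → ∃ c : F, ∀ v, (z : V ≃ₗ[ZMod p] V) v = c • v)
    (ha : 2 ≤ finrank F V) (hns : finrank F V = 2 → 4 ≤ Fintype.card F)
    (hcard : Nat.card (L ⧸ Subgroup.center L) = Nat.card (Matrix.ProjectiveSpecialLinearGroup (Fin (finrank F V)) F)) :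
    ∀ g : V ≃ₗ[F] V, LinearEquiv.det g = 1 ↔ ∃ h ∈ L, ∀ v, h v = g v := by
  classical
  have hdet : ∀ g ∈ L.comap (res p F V), LinearEquiv.det g = 1 := by
    intro g hg
    have h1 := Abelianization.commutator_subset_ker
      ((LinearEquiv.det.comp (L.comap (res p F V)).subtype).comp (resEquiv hlin).symm.toMonoidHom)
    rw [hperf] at h1
    have h2 := h1 (mem_top (resEquiv hlin ⟨g, hg⟩))
    rw [MonoidHom.mem_ker] at h2
    have h3 : (resEquiv hlin).symm.toMonoidHom (resEquiv hlin ⟨g, hg⟩) = ⟨g, hg⟩ :=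
      (resEquiv hlin).symm_apply_apply _
    rw [MonoidHom.comp_apply, h3] at h2
    exact h2
  set n := finrank F V with hn
  let b : Basis (Fin n) F V := finBasis F V
  let j : Matrix.SpecialLinearGroup (Fin n) F →* Matrix (Fin n) (Fin n) F :=
    { toFun := fun A => A.1, map_one' := rfl, map_mul' := fun _ _ => rfl }
  have hj : Function.Injective j := fun A B h => Subtype.ext h
  have hr : ∀ g : V ≃ₗ[F] V, g ∈ (theta b j).range ↔ LinearEquiv.det g = 1 := by
    intro g
    rw [mem_range_theta]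
    constructor
    · rintro ⟨A, hA⟩
      rw [Units.ext_iff, LinearEquiv.coe_det, ← LinearMap.det_toMatrix b, ← hA]
      exact A.2
    · intro h
      rw [Units.ext_iff, LinearEquiv.coe_det, ← LinearMap.det_toMatrix b] at h
      exact ⟨⟨_, h⟩, rfl⟩
  have hX : _root_.commutator (Matrix.SpecialLinearGroup (Fin n) F) = ⊤ := by
    rcases Nat.lt_or_ge n 3 with h | h
    · have h2 : n = 2 := by omega
      rw [h2]
      exact Cfsg.Agent.H259.NatMod.commutator_eq_top (hns h2)
    · exact Cfsg.Agent.H151.TwoPowElt.sl_perfect h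
  have key := comap_eq_range hX (theta b j) (theta_injective b j hj) hlin hcen
    (fun g hg => (hr g).2 (hdet g hg)) hcard
  intro g
  rw [← mem_comap_iff, key, hr]

/-- `L` is `Sp(V_F, f)`. -/
theorem nat_sp (hlin : ∀ g ∈ L, ∀ (c : F) (v : V), g (c • v) = c • g v) (hperf : commutator L = ⊤)
    (hcen : ∀ z : L, z ∈ Subgroup.center L → ∃ c : F, ∀ v, (z : V ≃ₗ[ZMod p] V) v = c • v)
    {f : LinearMap.BilinForm F V} (hf : f.IsAlt) (hnd : f.Nondegenerate) (hpres : ∀ h ∈ L, ∀ u v, f (h u) (h v) = f u v)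
    {m : ℕ} (hm : finrank F V = 2 * m) (hm2 : 2 ≤ m) (hns : m = 2 → 3 ≤ Fintype.card F)
    (hcard : Nat.card (L ⧸ Subgroup.center L) = Nat.card (PSp m F)) :
    ∀ g : V ≃ₗ[F] V, (∀ u v, f (g u) (g v) = f u v) ↔ ∃ h ∈ L, ∀ v, h v = g v := by
  classical
  obtain ⟨b, hb⟩ := Cfsg.Agent.H159.exists_symp_basis f hf hnd hm
  let j : Matrix.symplecticGroup (Fin m) F →* Matrix (Fin m ⊕ Fin m) (Fin m ⊕ Fin m) F :=
    (Matrix.symplecticGroup (Fin m) F).subtype
  have hj : Function.Injective j := Subtype.coe_injective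
  have hr : ∀ g : V ≃ₗ[F] V, g ∈ (theta b j).range ↔ ∀ u v, f (g u) (g v) = f u v := by
    intro g
    rw [mem_range_theta]
    have h2 := LinearMap.BilinForm.toMatrix_comp b b f (g : V →ₗ[F] V) (g : V →ₗ[F] V)
    constructor
    · rintro ⟨A, hA⟩ u v
      have h1 : f.comp (g : V →ₗ[F] V) (g : V →ₗ[F] V) = f := by
        apply (LinearMap.BilinForm.toMatrix b).injective
        rw [h2, hb, ← hA]
        have h3 := SymplecticGroup.mem_iff'.1 A.2
        change Matrix.transpose (A.1) * -Matrix.J (Fin m) F * A.1 = _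
        rw [Matrix.mul_neg, Matrix.neg_mul, h3]
      exact LinearMap.congr_fun (LinearMap.congr_fun h1 u) v
    · intro h
      have h1 : f.comp (g : V →ₗ[F] V) (g : V →ₗ[F] V) = f := by
        ext u v
        exact h u v
      rw [h1, hb] at h2
      have h3 := congrArg Neg.neg h2
      rw [neg_neg, Matrix.mul_neg, Matrix.neg_mul, neg_neg] at h3
      exact ⟨⟨_, SymplecticGroup.mem_iff'.2 h3.symm⟩, rfl⟩
  have hX := Cfsg.Agent.H62.SpMult.perfect_Sp (F := F) hm2 hns
  have key := comap_eq_range hX (theta b j) (theta_injective b j hj) hlin hcen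
    (fun g hg => (hr g).2 (by
      obtain ⟨h, hh, e⟩ := mem_comap_iff.1 hg
      intro u v
      rw [← e, ← e]
      exact hpres h hh u v)) hcard
  intro g
  rw [← mem_comap_iff, key, hr]

end

theorem card_po_odd {F : Type} [Field F] [Fintype F] {m : ℕ} (hm : 3 ≤ m) (h : Odd (Fintype.card F)) :
    Nat.card (POmega F (quadFormOdd m F)) = Nat.card (PSp m F) :=
  Cfsg.Agent.H163.PG.card_oodd h hm

end Cfsg.Agent.H347.Her
end

-- part: H50/HerFam
section
/-!
# Hering's theorem, defining characteristic: the families (helper50)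
-/

set_option autoImplicit false
set_option linter.unusedSectionVars false
set_option linter.style.haveILetI false

namespace Cfsg.Agent.H50.Her
open Cfsg Module
open Cfsg.Agent.ChevalleyStructure.CoxeterGeom Cfsg.Agent.Nodes.Reps
open Cfsg.Agent.Tits.Core Cfsg.Agent.Tits.Core.Bldg Cfsg.Agent.Tits.Exchange Cfsg.Agent.Tits
open Cfsg.Agent.FixBN Cfsg.Agent.FixBN.Cox Cfsg.Agent.LieRecognition.BNCox Cfsg.Agent.Nodes.RGDChev

universe u v

variable {p : ℕ} [hp : Fact p.Prime] {V : Type u} [AddCommGroup V] [Module (ZMod p) V] [Finite V] [Nontrivial V]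
variable {L : Subgroup (V ≃ₗ[ZMod p] V)}

theorem DC.bld (h : DC L) {l : ℕ} (hl : 0 < l) {M : CoxeterMatrix (Fin l)} {q : Fin l → ℕ} {S' : Type v} [Group S']
    (hP : HasPan p M q S') (e : L ⧸ Subgroup.center L ≃* S') : HasBld p M q L := by
  have := h.simple
  exact Cfsg.Agent.H797.HerSys.hasBld_of_pan hp.out hl (hP.of_equiv e.symm) (QuotientGroup.mk' (Subgroup.center L))
    (QuotientGroup.ker_mk' _) (by rw [QuotientGroup.ker_mk']; exact h.cop) (QuotientGroup.mk'_surjective _)

/-- the core for a group with a root group datum with panels -/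
theorem DC.pan (h : DC L) {l : ℕ} (hl : 0 < l) {M : CoxeterMatrix (Fin l)} (hc : KFacts.RgdCharP.Conn M)
    {q : Fin l → ℕ} {S' : Type v} [Group S'] (hP : HasPan p M q S') (e : L ⧸ Subgroup.center L ≃* S') :
    ∃ (P a : ℕ) (W : Type u) (_ : Group W) (_ : Finite W) (cs : CoxeterSystem M W) (J : Set (Fin l))
      (F : Type) (_ : Field F) (_ : Fintype F) (_ : Module F V),
      (∀ i, q i = P) ∧ J ≠ Set.univ ∧ UniqLen cs J ∧ (WJ cs J).index = a ∧ 2 ≤ a ∧ Fintype.card F = P ∧
      finrank F V = a ∧ IsScal L F ∧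
      ((∀ i, w0 cs * cs.simple i = cs.simple i * w0 cs) →
        ∃ f : LinearMap.BilinForm F V, f.IsAlt ∧ f.Nondegenerate ∧ ∀ g ∈ L, ∀ u v, f (g u) (g v) = f u v) := by
  have : Nonempty (Fin l) := ⟨⟨0, hl⟩⟩
  have hB := h.bld hl hP e
  obtain ⟨A, hA, -⟩ := hP
  exact h.core hA hc hB

theorem IsScal.center {F : Type} [Field F] [Module F V] (hs : IsScal L F) (z : L) (hz : z ∈ Subgroup.center L) :
    ∃ c : F, ∀ v, (z : V ≃ₗ[ZMod p] V) v = c • v := by
  obtain ⟨c, hc⟩ := hs.all (z.1 : V →ₗ[ZMod p] V) (fun g hg v => by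
    have h1 := Subgroup.mem_center_iff.1 hz ⟨g, hg⟩
    have h2 : g * z.1 = z.1 * g := congrArg Subtype.val h1
    exact (LinearEquiv.congr_fun h2 v).symm)
  exact ⟨c, hc⟩

/-- **`PSL_n(K)`** -/
theorem DC.psl (h : DC L) {K : Type} [Field K] [Fintype K] [CharP K p] {n : ℕ} (hn : 2 ≤ n)
    (hn2 : n = 2 → 4 ≤ Fintype.card K)
    (e : L ⧸ Subgroup.center L ≃* Matrix.ProjectiveSpecialLinearGroup (Fin n) K) : NatAct L := by
  obtain ⟨m, rfl⟩ : ∃ m, n = m + 1 := ⟨n - 1, by omega⟩
  obtain ⟨P, a, W, iW, iWf, cs, J, F, iF, iFf, iFm, hq, hJ, hU, hidx, ha, hF, hfr, hs, -⟩ :=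
    h.pan (by omega) (Cfsg.Agent.H538.MFacts.irr_A m) (Cfsg.Agent.H804.PanPSL.pan_psl (F := K) m (p := p)) e
  have h1 := Cfsg.Agent.H858.HerUniq.uniq_A cs hJ hU
  have hP := hq ⟨0, by omega⟩
  rw [Nat.card_eq_fintype_card] at hP
  have hfn : finrank F V = m + 1 := by omega
  have hKF : Fintype.card K = Fintype.card F := by rw [hF, hP]
  refine ⟨F, iF, iFf, iFm, by omega, hs.lin, hs.all, Or.inl ?_⟩
  refine Cfsg.Agent.H347.Her.nat_sl hs.lin h.perf hs.center (by omega) (fun h2 => ?_) ?_
  · rw [← hKF]; exact hn2 (by omega)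
  · rw [hfn, Nat.card_congr e.toEquiv]
    exact Nat.card_congr (LieClassical.FieldTransfer.pslCongr (FiniteField.ringEquivOfCardEq hKF)).toEquiv

/-- symplectic outcome -/
theorem DC.sp_of (h : DC L) {K : Type} [Field K] [Fintype K] {m : ℕ} (hm : 2 ≤ m) (hm2 : m = 2 → 3 ≤ Fintype.card K)
    {S' : Type v} [Group S'] (hP : HasPan p (CoxeterMatrix.B m) (fun _ => Nat.card K) S')
    (e : L ⧸ Subgroup.center L ≃* S') (hc : Nat.card S' = Nat.card (PSp m K)) : NatAct L := by
  obtain ⟨P, a, W, iW, iWf, cs, J, F, iF, iFf, iFm, hq, hJ, hU, hidx, ha, hF, hfr, hs, hform⟩ :=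
    h.pan (by omega) (Cfsg.Agent.H538.MFacts.irr_B m) hP e
  have h1 := Cfsg.Agent.H858.HerUniq.uniq_B (by omega) cs hJ hU
  have hP := hq ⟨0, by omega⟩
  rw [Nat.card_eq_fintype_card] at hP
  have hfn : finrank F V = 2 * m := by omega
  have hKF : Fintype.card K = Fintype.card F := by rw [hF, hP]
  obtain ⟨f, hf, hnd, hpres⟩ := hform (Cfsg.Agent.H256.WZero.w0_comm_B cs)
  refine ⟨F, iF, iFf, iFm, by omega, hs.lin, hs.all, Or.inr (Or.inl ⟨f, hf, hnd, ?_⟩)⟩
  refine Cfsg.Agent.H347.Her.nat_sp hs.lin h.perf hs.center hf hnd hpres hfn hm (fun h2 => ?_) ?_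
  · rw [← hKF]; exact hm2 h2
  · rw [Nat.card_congr e.toEquiv, hc]
    exact Nat.card_congr (LieClassical.FieldTransfer.pspCongr m (FiniteField.ringEquivOfCardEq hKF)).toEquiv

/-- **`PSp_2m(K)`** -/
theorem DC.psp (h : DC L) {K : Type} [Field K] [Fintype K] [CharP K p] {m : ℕ} (hm : 2 ≤ m)
    (hm2 : m = 2 → 3 ≤ Fintype.card K) (e : L ⧸ Subgroup.center L ≃* PSp m K) : NatAct L :=
  h.sp_of hm hm2 (Cfsg.Agent.H742.pan_psp (by omega)) e rfl

/-- **`PΩ_{2m+1}(K)`** -/
theorem DC.po_odd (h : DC L) {K : Type} [Field K] [Fintype K] [CharP K p] {m : ℕ} (hm : 3 ≤ m)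
    (ho : Odd (Fintype.card K)) (e : L ⧸ Subgroup.center L ≃* POmega K (quadFormOdd m K)) : NatAct L := by
  have hp2 : p ≠ 2 := by
    rintro rfl
    obtain ⟨k, hk, hc⟩ := FiniteField.card K 2
    rw [hc] at ho
    exact (Nat.not_even_iff_odd.2 ho) ((Nat.even_pow.2 ⟨even_two, k.2.ne'⟩))
  exact h.sp_of (by omega) (by omega) (Cfsg.Agent.H353.PanO.pan_po_odd hm hp2) e
    (Cfsg.Agent.H347.Her.card_po_odd hm ho)

/-- unequal panels -/
theorem DC.no_pan (h : DC L) {l : ℕ} {M : CoxeterMatrix (Fin l)} (hc : KFacts.RgdCharP.Conn M)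
    {q : Fin l → ℕ} {S' : Type v} [Group S'] (hP : HasPan p M q S') (e : L ⧸ Subgroup.center L ≃* S') {i j : Fin l}
    (hij : q i ≠ q j) : False := by
  obtain ⟨P, a, W, iW, iWf, cs, J, F, iF, iFf, iFm, hq, -⟩ := h.pan (Nat.pos_of_ne_zero (by
    rintro rfl; exact i.elim0)) hc hP e
  exact hij ((hq i).trans (hq j).symm)

/-- **`PΩ⁻_{2m}(K)`** -/
theorem DC.po_minus (h : DC L) {K : Type} [Field K] [Fintype K] [CharP K p] {m : ℕ} (hm : 4 ≤ m) {a b : K}
    (hab : ∀ z₁ z₂ : K, z₁ ^ 2 + a * z₁ * z₂ + b * z₂ ^ 2 = 0 → z₁ = 0 ∧ z₂ = 0)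
    (e : L ⧸ Subgroup.center L ≃* POmega K (quadFormMinus (m - 1) K a b)) : False := by
  refine h.no_pan (Cfsg.Agent.H538.MFacts.irr_B (m - 1)) (Cfsg.Agent.H353.PanO.pan_po_minus hab (by omega)) e
    (i := ⟨0, by omega⟩) (j := ⟨m - 2, by omega⟩) ?_
  rw [if_pos (by change 0 + 1 < m - 1; omega), if_neg (by change ¬ (m - 2 + 1 < m - 1); omega)]
  have h1 : 1 < Nat.card K := Finite.one_lt_card
  nlinarith

/-- **`³D₄(q)`** -/
theorem DC.twD4 (h : DC L) {K : Type} [Field K] [Fintype K] [CharP K p] {q : ℕ} (hq : IsPrimePow q)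
    (hK : Fintype.card K = q ^ 3) (e : L ⧸ Subgroup.center L ≃* Lie.twistedD4 K q) : False := by
  refine h.no_pan Cfsg.Agent.H538.MFacts.irr_G2 (Cfsg.Agent.H793.pan_twD4 hq hK p) e
    (i := 0) (j := 1) ?_
  rw [if_pos rfl, if_neg (by decide)]
  have h1 := hq.one_lt
  have h2 : q ^ 1 < q ^ 3 := Nat.pow_lt_pow_right h1 (by norm_num)
  rw [pow_one] at h2
  exact h2.ne

theorem DC.sysT (h : DC L) {l : ℕ} (hl : 0 < l) {M : CoxeterMatrix (Fin l)} {S' : Type v} [Group S']
    (hP : Cfsg.Agent.Omega.ML.Ex.Typ.HasRGDT p M S') (e : L ⧸ Subgroup.center L ≃* S') :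
    Cfsg.Agent.H905.DC.HasSysT p M L := by
  have := h.simple
  exact Cfsg.Agent.H797.HerSys.hasSysT_of_rgdT hp.out hl (hP.of_equiv e.symm) (QuotientGroup.mk' (Subgroup.center L))
    (QuotientGroup.ker_mk' _) (by rw [QuotientGroup.ker_mk']; exact h.cop) (QuotientGroup.mk'_surjective _)

/-- the types without unique lengths -/
theorem DC.no_uniq (h : DC L) {l : ℕ} (hl : 0 < l) {M : CoxeterMatrix (Fin l)} (hc : KFacts.RgdCharP.Conn M)
    {S' : Type v} [Group S'] (hP : Cfsg.Agent.Omega.ML.Ex.Typ.HasRGDT p M S') (e : L ⧸ Subgroup.center L ≃* S')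
    (hU : ∀ (W : Type u) [Group W] [Finite W] (cs : CoxeterSystem M W) (J : Set (Fin l)), J ≠ Set.univ →
      UniqLen cs J → False) : False := by
  have : Nonempty (Fin l) := ⟨⟨0, hl⟩⟩
  have hB := h.sysT hl hP e
  obtain ⟨A, hA, -⟩ := hP
  obtain ⟨W, iW, iWf, cs, J, hJ, h1⟩ := h.core_uniq hA hc hB
  exact hU W cs J hJ h1

/-- **`PΩ⁺_{2m}(K)`** -/
theorem DC.po_plus (h : DC L) {K : Type} [Field K] [Fintype K] [CharP K p] {m : ℕ} (hm : 4 ≤ m)
    (e : L ⧸ Subgroup.center L ≃* POmega K (quadFormPlus m K)) : False := by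
  obtain ⟨n, rfl⟩ : ∃ n, m = n + 3 := ⟨m - 3, by omega⟩
  exact h.no_uniq (by omega) (Cfsg.Agent.H538.MFacts.irr_D (n + 1) (by omega))
    (Cfsg.Agent.Omega.ML.Ex.Typ.typ_PO_plus n) e
    (fun W _ _ cs J hJ hU => Cfsg.Agent.H219.HerUniq.uniq_D (by omega) cs hJ hU)

/-- **`²E₆(q)`** -/
theorem DC.twE6 (h : DC L) {K : Type} [Field K] [Fintype K] [CharP K p] {q : ℕ} (hq : IsPrimePow q)
    (hK : Fintype.card K = q ^ 2) (e : L ⧸ Subgroup.center L ≃* Lie.twistedE6 K q) : False :=
  h.no_uniq (by omega) Cfsg.Agent.H538.MFacts.irr_F4 (Cfsg.Agent.Omega.ML.Ex.Typ.typ_twE6 hq hK p) e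
    (fun W _ _ cs J hJ hU => Cfsg.Agent.H219.HerUniq.uniq_F cs hJ hU)

/-- **`F₄, E₆, E₇, E₈`** -/
theorem DC.exc (h : DC L) {K : Type} [Field K] [Fintype K] [CharP K p]
    (e : Nonempty (L ⧸ Subgroup.center L ≃* Lie.chevF4.group K) ∨ Nonempty (L ⧸ Subgroup.center L ≃* Lie.chevE6.group K) ∨
      Nonempty (L ⧸ Subgroup.center L ≃* Lie.chevE7.group K) ∨
      Nonempty (L ⧸ Subgroup.center L ≃* Lie.chevE8.group K)) : False := by
  rcases e with ⟨⟨e⟩⟩ | ⟨⟨e⟩⟩ | ⟨⟨e⟩⟩ | ⟨⟨e⟩⟩
  · exact h.no_uniq (by omega) Cfsg.Agent.H538.MFacts.irr_F4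
      (Cfsg.Agent.Omega.ML.Ex.Typ.typ_group (by simp [IsType, typeList]) K p) e
      (fun W _ _ cs J hJ hU => Cfsg.Agent.H219.HerUniq.uniq_F cs hJ hU)
  · exact h.no_uniq (by omega) Cfsg.Agent.H538.MFacts.irr_E6
      (Cfsg.Agent.Omega.ML.Ex.Typ.typ_group (by simp [IsType, typeList]) K p) e
      (fun W _ _ cs J hJ hU => Cfsg.Agent.H219.HerUniq.uniq_E6 cs hJ hU)
  · exact h.no_uniq (by omega) Cfsg.Agent.H538.MFacts.irr_E7
      (Cfsg.Agent.Omega.ML.Ex.Typ.typ_group (by simp [IsType, typeList]) K p) e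
      (fun W _ _ cs J hJ hU => Cfsg.Agent.H219.HerUniq.uniq_E7 cs hJ hU)
  · exact h.no_uniq (by omega) Cfsg.Agent.H538.MFacts.irr_E8
      (Cfsg.Agent.Omega.ML.Ex.Typ.typ_group (by simp [IsType, typeList]) K p) e
      (fun W _ _ cs J hJ hU => Cfsg.Agent.H219.HerUniq.uniq_E8 cs hJ hU)

/-- **`G₂(K)`** -/
theorem DC.g2 (h : DC L) {K : Type} [Field K] [Fintype K] [CharP K p] (hK : 3 ≤ Fintype.card K)
    (e : L ⧸ Subgroup.center L ≃* Lie.chevG2.group K) : NatAct L := by
  obtain ⟨P, a, W, iW, iWf, cs, J, F, iF, iFf, iFm, hq, hJ, hU, hidx, ha, hF, hfr, hs, hform⟩ :=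
    h.pan (by omega) Cfsg.Agent.H538.MFacts.irr_G2 (Cfsg.Agent.H793.pan_g2 K p) e
  have h1 := Cfsg.Agent.H858.HerUniq.uniq_G cs hJ hU
  have hP := hq 0
  rw [Nat.card_eq_fintype_card] at hP
  have hfn : finrank F V = 6 := by omega
  have hKF : Fintype.card K = Fintype.card F := by rw [hF, hP]
  obtain ⟨f, hf, hnd, hpres⟩ := hform (Cfsg.Agent.H256.WZero.w0_comm_G cs)
  have hz := Cfsg.Agent.H131.HerTen.center_g2 h.perf hK e h.cop
  obtain ⟨k, hk, hkc⟩ := FiniteField.card K p
  let e1 : L ≃* Lie.chevG2.group K :=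
    (QuotientGroup.quotientBot.symm.trans (QuotientGroup.quotientMulEquivOfEq hz.symm)).trans e
  refine ⟨F, iF, iFf, iFm, by omega, hs.lin, hs.all, Or.inr (Or.inr ?_)⟩
  by_cases hp2 : p = 2
  · subst hp2
    refine ⟨rfl, hfn, ?_, ?_, f, hf, hnd, hpres⟩
    · rw [← hKF, hkc]
      rw [hkc] at hK
      have hk2 : 2 ≤ (k : ℕ) := by
        rcases Nat.lt_or_ge (k : ℕ) 2 with h5 | h5
        · have h6 : (k : ℕ) = 1 := Nat.le_antisymm (Nat.le_of_lt_succ h5) k.2
          rw [h6] at hK
          norm_num at hK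
        · exact h5
      calc 4 = 2 ^ 2 := by norm_num
        _ ≤ 2 ^ (k : ℕ) := Nat.pow_le_pow_right (by norm_num) hk2
    · exact ⟨e1.trans (Cfsg.Agent.H64.ChevField.groupCongr (FiniteField.ringEquivOfCardEq hKF) Lie.chevG2)⟩
  · exfalso
    have hcF : CharP F p := charP_of_card_eq_prime_pow (hKF.symm.trans hkc)
    have hne : ∀ (E : Type) [Field E] [CharP E p], (2 : E) ≠ 0 := by
      intro E _ _ h0
      have h3 : ((2 : ℕ) : E) = 0 := by exact_mod_cast h0
      rw [CharP.cast_eq_zero_iff E p] at h3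
      exact hp2 ((Nat.prime_dvd_prime_iff_eq hp.out Nat.prime_two).1 h3)
    obtain ⟨E, hE8, hEsq⟩ := Cfsg.Agent.H256.GTwoEight.exists_eight (F := K) (hne K)
    refine Cfsg.Agent.H131.HerTen.no_eight hs.lin (hne F) hz hf hnd hpres hfn ((E.map e1.symm.toMonoidHom).map L.subtype)
      ?_ ?_ ?_
    · rintro _ ⟨x, -, rfl⟩
      exact x.2
    · rw [Subgroup.card_map_of_injective L.subtype_injective, Subgroup.card_map_of_injective e1.symm.injective, hE8]
    · rintro _ ⟨_, ⟨x, hx, rfl⟩, rfl⟩
      rw [← map_mul, ← map_mul, hEsq x hx, map_one, map_one]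

open scoped Pointwise in
/-- rank one: no noncommutative `p`-subgroup of the quotient -/
theorem DC.no_one (h : DC L) {M : CoxeterMatrix (Fin 1)} (hS : Cfsg.Agent.H905.DC.HasSysT p M L) {S' : Type v}
    [Group S'] (e : L ⧸ Subgroup.center L ≃* S') (hQ : ∃ Q : Subgroup S', IsPGroup p Q ∧ ∃ x ∈ Q, ∃ y ∈ Q,
      x * y ≠ y * x) : False := by
  obtain ⟨Q, hQ, x, hx, y, hy, hne⟩ := hQ
  apply hne
  have := h.core_one hS
  have hfin : Finite S' := Finite.of_equiv _ e.toEquiv
  let f : L →* S' := e.toMonoidHom.comp (QuotientGroup.mk' (Subgroup.center L))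
  have hf : Function.Surjective f := e.surjective.comp (QuotientGroup.mk'_surjective _)
  obtain ⟨R⟩ : Nonempty (Sylow p L) := inferInstance
  obtain ⟨T, hT⟩ := hQ.exists_le_sylow
  obtain ⟨g, hg⟩ := MulAction.exists_smul_eq S' (R.mapSurjective hf) T
  have key : ∀ z ∈ T, ∃ r ∈ R, z = g * f r * g⁻¹ := by
    intro z hz
    rw [← hg] at hz
    obtain ⟨w, hw, e1⟩ : z ∈ (MulAut.conj g • ((R.mapSurjective hf : Sylow p S') : Set S')) := hz
    obtain ⟨r, hr, e2⟩ := hw
    refine ⟨r, hr, ?_⟩
    rw [← e1, ← e2]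
    rfl
  obtain ⟨r, hr, e1⟩ := key x (hT hx)
  obtain ⟨s, hs, e2⟩ := key y (hT hy)
  have h3 := this R R.isPGroup' r hr s hs
  rw [e1, e2]
  calc g * f r * g⁻¹ * (g * f s * g⁻¹) = g * f (r * s) * g⁻¹ := by rw [map_mul]; group
    _ = g * f s * g⁻¹ * (g * f r * g⁻¹) := by rw [h3, map_mul]; group

/-- **`PSU_n(q)`** -/
theorem DC.psu (h : DC L) {K : Type} [Field K] [Fintype K] [CharP K p] {n q : ℕ} (hK : Fintype.card K = q ^ 2)
    (hn : 3 ≤ n) (e : L ⧸ Subgroup.center L ≃* PSU n K q) : False := by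
  have hq : 2 ≤ q := by
    have h1 : 1 < Fintype.card K := Fintype.one_lt_card
    rw [hK] at h1
    by_contra hcon
    interval_cases q <;> omega
  obtain ⟨m, hm⟩ : ∃ m, n = 2 * m ∨ n = 2 * m + 1 := ⟨n / 2, by omega⟩
  rcases hm with rfl | rfl
  · refine h.no_pan (Cfsg.Agent.H538.MFacts.irr_B m) (Cfsg.Agent.H742.pan_psu_even hK (by omega)) e
      (i := ⟨0, by omega⟩) (j := ⟨m - 1, by omega⟩) ?_
    rw [if_pos (by change 0 + 1 < m; omega), if_neg (by change ¬ (m - 1 + 1 < m); omega)]
    nlinarith only [hq]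
  · rcases Nat.lt_or_ge m 2 with h2 | h2
    · obtain rfl : m = 1 := by omega
      have hP := Cfsg.Agent.H742.pan_psu_odd (m := 1) (p := p) hK le_rfl
      exact h.no_one (h.sysT (by omega) hP.hasRGDT e) e (Cfsg.Agent.H892.HerSz.psu3_noncomm hK)
    · refine h.no_pan (Cfsg.Agent.H538.MFacts.irr_B m) (Cfsg.Agent.H742.pan_psu_odd hK (by omega)) e
        (i := ⟨0, by omega⟩) (j := ⟨m - 1, by omega⟩) ?_
      rw [if_pos (by change 0 + 1 < m; omega), if_neg (by change ¬ (m - 1 + 1 < m); omega)]
      have h3 : q ^ 2 < q ^ 3 := Nat.pow_lt_pow_right hq (by norm_num)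
      exact h3.ne

theorem DC.sz (h : DC L) (hp2 : p = 2) (hS : Lie.IsoSuzuki (L ⧸ Subgroup.center L)) : False := by
  subst hp2
  obtain ⟨h1, Q, hQ, x, hx, y, hy, hne⟩ := Cfsg.Agent.H892.HerSz.sys_sz hS (QuotientGroup.mk' (Subgroup.center L))
    (QuotientGroup.ker_mk' _) (by rw [QuotientGroup.ker_mk']; exact h.cop) (QuotientGroup.mk'_surjective _)
  exact hne (h.core_one h1 Q hQ x hx y hy)

theorem DC.ree (h : DC L) (hp3 : p = 3) (hS : Lie.IsoRee (L ⧸ Subgroup.center L)) : False := by
  subst hp3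
  obtain ⟨h1, Q, hQ, x, hx, y, hy, hne⟩ := Cfsg.Agent.H892.HerSz.sys_ree hS (QuotientGroup.mk' (Subgroup.center L))
    (QuotientGroup.ker_mk' _) (by rw [QuotientGroup.ker_mk']; exact h.cop) (QuotientGroup.mk'_surjective _)
  exact hne (h.core_one h1 Q hQ x hx y hy)

theorem DC.twF4 (h : DC L) (hp2 : p = 2) (hS : Lie.Iso2F4 (L ⧸ Subgroup.center L)) : False := by
  subst hp2
  obtain ⟨M, hM, h1, m, hm⟩ := Cfsg.Agent.H60.HerTwF4.sys_twF4 hS (QuotientGroup.mk' (Subgroup.center L))
    (QuotientGroup.ker_mk' _) (by rw [QuotientGroup.ker_mk']; exact h.cop) (QuotientGroup.mk'_surjective _)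
  have h2 := h.core_eight hM h1
  rw [← hm] at h2
  omega

/-- **Hering's theorem, defining characteristic.** -/
theorem DC.main (h : DC L) (hS : IsLieTypeChar p (L ⧸ Subgroup.center L)) : NatAct L := by
  rcases hS with hS | hS | hS | hS | hS | hS | hS | hS | hS | hS | hS
  · obtain ⟨K, _, _, _, n, hn, hn2, ⟨e⟩⟩ := hS
    exact h.psl hn hn2 e
  · obtain ⟨K, _, _, _, m, hm, hm2, ⟨e⟩⟩ := hS
    exact h.psp hm hm2 e
  · obtain ⟨K, _, _, _, n, q, hK, hn, -, ⟨e⟩⟩ := hS
    exact (h.psu hK hn e).elim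
  · obtain ⟨K, _, _, _, m, hm, ho, ⟨e⟩⟩ := hS
    exact h.po_odd hm ho e
  · obtain ⟨K, _, _, _, m, hm, ⟨e⟩⟩ := hS
    exact (h.po_plus hm e).elim
  · obtain ⟨K, _, _, _, m, a, b, hm, hab, ⟨e⟩⟩ := hS
    exact (h.po_minus hm hab e).elim
  · obtain ⟨K, _, _, _, hS⟩ := hS
    rcases hS with ⟨hK, ⟨e⟩⟩ | hS
    · exact h.g2 hK e
    · exact (h.exc hS).elim
  · obtain ⟨K, _, _, _, q, hq, ⟨hK, ⟨e⟩⟩ | ⟨hK, ⟨e⟩⟩⟩ := hS
    · exact (h.twE6 hq hK e).elim
    · exact (h.twD4 hq hK e).elim
  · exact (h.sz hS.1 hS.2).elim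
  · exact (h.twF4 hS.1 hS.2).elim
  · exact (h.ree hS.1 hS.2).elim

end Cfsg.Agent.H50.Her
end

private theorem dce_1f78fa5d0523 : _root_.True := by
  try have : _root_.True := by simp only [_root_.Cfsg.Agent.H256.GTwoEight.two.congr_simp]
  exact _root_.True.intro
end
end
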