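import Mathlib
import Cfsg.Agent.Prune
set_option linter.all false
prune_inst 0x7f00000000000000000000000000000000000000000000000000000000000000000000000000000000000000000000000000000000000000000000000000000000000000000000000000000000000000003fffffffffffffffffffffffffffbeffbdffffffff
open scoped Cfsg.Agent.FastGrp

/-!
# Hering's theorem (S3695): interface of the case analysis (helper50)

`Cfg p d b L V S π ρ` : the thin form of the configuration after the reduction to a quasisimple normal subgroup: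
`L` is a finite perfect central extension of the simple group `S`, a subgroup of `GL(V)`, `|V| = p ^ d`, irreducible,
`End_L(V)` has order `p ^ b`, `b ∣ d`, `b < d` and `(p ^ d - 1) / (p ^ b - 1)` divides `|Aut S|`.

`Large p d r R` : `r` is a prime, `p` has order `d` modulo `r`, and `R = r ≥ 2 d + 1` or `R = r ^ 2`, `r = d + 1`;
`R ∣ p ^ d - 1`.

A row theorem for a family of simple groups `S`: `3 ≤ d`, `Large p d r R`, `Cfg …`, `r ∣ |S|` (and so `R ∣ |Aut S|`,
`Cfg.R_dvd`) are contradictory.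
-/

set_option autoImplicit false

namespace Cfsg.Agent.H50.Her

universe u v w

/-- `r` is a prime, `p` has order `d` modulo `r`, and `R = r ≥ 2 d + 1` or `R = r ^ 2` with `r = d + 1`; `R` divides
`p ^ d - 1`. -/
structure Large (p d r R : ℕ) : Prop where
  prime : r.Prime
  ord : orderOf (p : ZMod r) = d
  large : (R = r ∧ 2 * d + 1 ≤ r) ∨ (R = r ^ 2 ∧ r = d + 1)
  dvd : R ∣ p ^ d - 1

/-- The thin form of the configuration after the reduction to a quasisimple normal subgroup `L` of the transitive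
linear group. -/
structure Cfg (p d b : ℕ) (L : Type u) (V : Type v) (S : Type w) [Group L] [AddCommGroup V] [Module (ZMod p) V]
    [Group S] (π : L →* S) (ρ : L →* (V ≃ₗ[ZMod p] V)) : Prop where
  prime : p.Prime
  finL : Finite L
  finV : Finite V
  simple : IsSimpleGroup S
  noncomm : ∃ x y : S, x * y ≠ y * x
  surj : Function.Surjective π
  cent : π.ker = Subgroup.center L
  perf : commutator L = ⊤
  inj : Function.Injective ρ
  card_V : Nat.card V = p ^ d
  irr : ∀ W : Submodule (ZMod p) V, (∀ g, ∀ x ∈ W, ρ g x ∈ W) → W = ⊥ ∨ W = ⊤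
  b_dvd : b ∣ d
  b_lt : b < d
  /-- `(p ^ d - 1) / (p ^ b - 1)` divides `|Aut S|` -/
  num : p ^ d - 1 ∣ (p ^ b - 1) * Nat.card (MulAut S)
  /-- the centre of `L` consists of scalars of `End_L(V)` -/
  card_center : Nat.card (Subgroup.center L) ∣ p ^ b - 1
  /-- `End_L(V)` has order `p ^ b` -/
  card_end : Nat.card {f : V →ₗ[ZMod p] V // ∀ g x, f (ρ g x) = ρ g (f x)} = p ^ b

variable {p d b r R : ℕ} {L : Type u} {V : Type v} {S : Type w} [Group L] [AddCommGroup V] [Module (ZMod p) V]
    [Group S] {π : L →* S} {ρ : L →* (V ≃ₗ[ZMod p] V)}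

/-- `r ∤ p ^ i - 1` for `0 < i < d`. -/
theorem Large.not_dvd (h : Large p d r R) (hp : 1 ≤ p) {i : ℕ} (h0 : 0 < i) (hi : i < d) : ¬ r ∣ p ^ i - 1 := by
  intro hd
  have := Fact.mk h.prime
  have h1 : (p : ZMod r) ^ i = 1 := by
    have h2 : ((p ^ i - 1 : ℕ) : ZMod r) = 0 := (ZMod.natCast_eq_zero_iff _ _).2 hd
    rw [Nat.cast_sub (Nat.one_le_pow _ _ hp), Nat.cast_pow, Nat.cast_one, sub_eq_zero] at h2
    exact h2
  have h3 := orderOf_dvd_of_pow_eq_one h1
  rw [h.ord] at h3
  exact absurd (Nat.le_of_dvd h0 h3) (by omega)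

theorem Large.exists_pow (h : Large p d r R) : ∃ k, 1 ≤ k ∧ k ≤ 2 ∧ R = r ^ k := by
  rcases h.large with ⟨h1, -⟩ | ⟨h1, -⟩
  · exact ⟨1, le_rfl, by norm_num, by rw [h1, pow_one]⟩
  · exact ⟨2, by norm_num, le_rfl, h1⟩

/-- `R` divides `|Aut S|`. -/
theorem Cfg.R_dvd (h : Cfg p d b L V S π ρ) (hL : Large p d r R) (hb : 0 < b) : R ∣ Nat.card (MulAut S) := by
  obtain ⟨k, -, -, hk⟩ := hL.exists_pow
  have h1 := hL.dvd.trans h.num
  have h2 : Nat.Coprime R (p ^ b - 1) := by
    rw [hk]
    apply Nat.Coprime.pow_left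
    rw [Nat.Prime.coprime_iff_not_dvd hL.prime]
    exact hL.not_dvd h.prime.one_lt.le hb h.b_lt
  exact h2.dvd_of_dvd_mul_left h1

/-- `b` is positive. -/
theorem Cfg.b_pos (h : Cfg p d b L V S π ρ) : 0 < b := by
  rcases Nat.eq_zero_or_pos b with h0 | h0
  · have := h.b_dvd
    rw [h0, zero_dvd_iff] at this
    have h1 := h.b_lt
    omega
  · exact h0

end Cfsg.Agent.H50.Her
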